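import Groth.Agent.Lib.Helper2.Aff.AffModel
import Groth.Agent.Lib.Helper2.Aff.PCBound
import Groth.Agent.Lib.Helper1.MaxAnnInt
import Groth.Agent.Lib.Helper13.OpenEquivSupp
import Groth.Agent.Lib.Helper13.PCohFT

/-!
# Vanishing of a pseudo-coherent bounded complex spreads out from a point (helper2)
-/

set_option autoImplicit false
set_option linter.style.haveILetI false
universe u
open CategoryTheory CategoryTheory.Limits CategoryTheory.Pretriangulated DerivedCategory
  AlgebraicGeometry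

attribute [local instance] HasDerivedCategory.standard

namespace Groth.Agent.Lib.Helper2.FlatAmpDesc.SpreadZero

open AlgebraicGeometry.Scheme.Modules Groth.Agent.Lib.Helper13 Groth.Agent.Lib.Helper2.Aff

section Restr

variable {X Y : Scheme.{u}} (j : Y ⟶ X) [IsOpenImmersion j]

lemma isGE_restrictD (L : DCoh.D X) (r : ℤ) [L.IsGE r] : ((DCoh.restrictD j).obj L).IsGE r := by
  rw [DerivedCategory.isGE_iff]
  intro i hi
  obtain ⟨e⟩ := OpenEquivSupp.nonempty_HD_restrictD_iso j L i
  exact IsZero.of_iso ((restrictFunctor j).map_isZero (DerivedCategory.isZero_of_isGE L r i hi)) e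

lemma isLE_restrictD (L : DCoh.D X) (r : ℤ) [L.IsLE r] : ((DCoh.restrictD j).obj L).IsLE r := by
  rw [DerivedCategory.isLE_iff]
  intro i hi
  obtain ⟨e⟩ := OpenEquivSupp.nonempty_HD_restrictD_iso j L i
  exact IsZero.of_iso ((restrictFunctor j).map_isZero (DerivedCategory.isZero_of_isLE L r i hi)) e

end Restr

lemma isZero_of_support_eq_empty {Y : Scheme.{u}} (G : Y.Modules) (h : CohB1.support G = ∅) :
    IsZero G := by
  by_contra hz
  obtain ⟨x, hx⟩ := Groth.Agent.Lib.Helper1.MaxAnnInt.support_nonempty G hz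
  rw [h] at hx
  exact hx

theorem exists_nhd_disjoint_support (n : ℕ) : ∀ {Y : Scheme.{u}} (C : DCoh.D Y) (a b : ℤ)
    (_ : b - a < n) (_ : DCoh.IsQCohD C) (_ : ∀ m : ℤ, DCoh.IsPseudoCoherentD m C)
    (_ : C.IsGE a) (_ : C.IsLE b) (y : Y) (_ : ∀ i : ℤ, y ∉ CohB1.support (DCoh.HD C i)),
    ∃ U : Y.Opens, y ∈ U ∧ ∀ i : ℤ, Disjoint (U : Set Y) (CohB1.support (DCoh.HD C i)) := by
  induction n with
  | zero =>
    intro Y C a b hn hq hpc ha hb y hy
    refine ⟨⊤, trivial, fun i => ?_⟩
    have hz : IsZero (DCoh.HD C i) := by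
      by_cases hi : i < a
      · exact DerivedCategory.isZero_of_isGE C a i hi
      · exact DerivedCategory.isZero_of_isLE C b i (by omega)
    rw [Qcqs.support_eq_empty_of_isZero hz]
    exact Set.disjoint_empty _
  | succ n ih =>
    intro Y C a b hn hq hpc ha hb y hy
    have hft : CohB1.IsFT (DCoh.HD C b) :=
      PCohFT.isFT_top b C (hpc b) (fun i hi => DerivedCategory.isZero_of_isLE C b i hi)
    haveI : (DCoh.HD C b).IsQuasicoherent := hq b
    haveI : (DCoh.HD C b).IsFiniteType := hft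
    have hcl : IsClosed (CohB1.support (DCoh.HD C b)) :=
      Groth.Agent.Lib.Helper1.MaxAnnInt.isClosed_support (DCoh.HD C b)
    let U₀ : Y.Opens := ⟨(CohB1.support (DCoh.HD C b))ᶜ, hcl.isOpen_compl⟩
    have hyU₀ : y ∈ U₀ := hy b
    let C' := (DCoh.restrictD U₀.ι).obj C
    have hsupp : ∀ i, CohB1.support (DCoh.HD C' i) =
        U₀.ι.base ⁻¹' CohB1.support (DCoh.HD C i) := fun i =>
      AffModel.support_HD_restrictD U₀.ι C i
    haveI : C'.IsGE a := isGE_restrictD U₀.ι C a
    haveI : C'.IsLE b := isLE_restrictD U₀.ι C b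
    have hb' : C'.IsLE (b - 1) := by
      rw [DerivedCategory.isLE_iff]
      intro i hi
      by_cases hib : i = b
      · subst hib
        apply isZero_of_support_eq_empty
        rw [hsupp]
        ext z
        simp only [Set.mem_preimage, Set.mem_empty_iff_false, iff_false]
        exact z.2
      · exact DerivedCategory.isZero_of_isLE C' b i (by omega)
    obtain ⟨U', hyU', hU'⟩ := ih C' a (b - 1) (by omega)
      (OpenEquivSupp.isQCohD_restrictD U₀.ι C hq)
      (fun m => ClImmPC.isPC_restrict U₀.ι (hpc m)) inferInstance hb' ⟨y, hyU₀⟩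
      (fun i => by rw [hsupp]; exact hy i)
    refine ⟨U₀.ι ''ᵁ U', ⟨⟨y, hyU₀⟩, hyU', rfl⟩, fun i => ?_⟩
    rw [Set.disjoint_left]
    rintro _ ⟨z, hz, rfl⟩ hzs
    have h1 : z ∈ CohB1.support (DCoh.HD C' i) := by rw [hsupp]; exact hzs
    exact (Set.disjoint_left.1 (hU' i)) hz h1

end Groth.Agent.Lib.Helper2.FlatAmpDesc.SpreadZero
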