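import Mathlib
import Groth.Prelude.Def_DRing2
import Groth.Agent.Lib.Helper18.DRExt2

/-!
# Clearing denominators in a bounded complex of finite free modules over a localization (helper2)

`exists_descent`: a bounded complex of finite projective modules over `S = R_p` is isomorphic to the
base change of a bounded complex of finite free `R`-modules.
-/

set_option autoImplicit false
set_option linter.style.haveILetI false
universe u
open CategoryTheory CategoryTheory.Limits TensorProduct

namespace Groth.Agent.Lib.Helper2.FlatAmpDesc.Clear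

open Groth.Agent.Lib.Helper18.DR

section Basic

variable {R : Type u} [CommRing R] {S : Type u} [CommRing S] [Algebra R S]
  {N : Type u} [AddCommGroup N] [Module S N] [Module R N] [IsScalarTower R S N]

/-- the `R`-linear combination map attached to an `S`-basis -/
noncomputable def loc {I : Type u} (β : Module.Basis I S N) : (I →₀ R) →ₗ[R] N :=
  Finsupp.linearCombination R β

lemma loc_eq {I : Type u} (β : Module.Basis I S N) :
    loc (R := R) β = (β.repr.symm.restrictScalars R).toLinearMap ∘ₗ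
      Finsupp.mapRange.linearMap (Algebra.linearMap R S) := by
  apply Finsupp.lhom_ext'
  intro j
  apply LinearMap.ext_ring
  simp [loc]

instance isLocalizedModule_loc (P : Submonoid R) [IsLocalization P S] {I : Type u}
    (β : Module.Basis I S N) : IsLocalizedModule P (loc (R := R) β) := by
  rw [loc_eq]
  exact IsLocalizedModule.of_linearEquiv P _ _

/-- multiplication by a unit of `S`, as an `R`-linear automorphism -/
noncomputable def unitSmul (c : Sˣ) : N ≃ₗ[R] N where
  toFun x := (c : S) • x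
  invFun x := ((c⁻¹ : Sˣ) : S) • x
  map_add' := smul_add _
  map_smul' r x := by
    simp only [RingHom.id_apply]
    rw [← algebraMap_smul S r x, ← algebraMap_smul S r ((c : S) • x), smul_smul, smul_smul,
      mul_comm]
  left_inv x := by simp [smul_smul]
  right_inv x := by simp [smul_smul]

@[simp] lemma unitSmul_apply (c : Sˣ) (x : N) : unitSmul (R := R) c x = (c : S) • x := rfl

end Basic

section Main

variable {R : Type u} [CommRing R] {S : Type u} [CommRing S] [Algebra R S]
  (p : Ideal R) [p.IsPrime] [IsLocalization.AtPrime S p]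

local notation "cc" => ComplexShape.up ℤ

lemma prod_Ico_step {G : Type*} [CommMonoid G] (f : ℤ → G) (i b : ℤ) (h : i < b) :
    ∏ j ∈ Finset.Ico i b, f j = f i * ∏ j ∈ Finset.Ico (i + 1) b, f j := by
  have h1 : Finset.Ico i b = insert i (Finset.Ico (i + 1) b) := by
    ext j
    simp only [Finset.mem_Ico, Finset.mem_insert]
    omega
  rw [h1, Finset.prod_insert (by simp)]

include p in
theorem exists_descent (E : DRing.Cx S) (a b : ℤ) (hv : DRing.VanishesOutside E a b)
    (hE : DRing.TermwiseFiniteProjective E) :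
    ∃ E'' : DRing.Cx R, DRing.VanishesOutside E'' a b ∧ DRing.TermwiseFiniteFree E'' ∧
      Nonempty (((extM (A := R) (B := S)).mapHomologicalComplex cc).obj E'' ≅ E) := by
  classical
  haveI : IsLocalRing S := IsLocalization.AtPrime.isLocalRing S p
  letI modR : ∀ i, Module R (E.X i) := fun i => Module.compHom (E.X i) (algebraMap R S)
  haveI tower : ∀ i, IsScalarTower R S (E.X i) := fun i =>
    IsScalarTower.of_algebraMap_smul (fun _ _ => rfl)
  haveI hfin : ∀ i, Module.Finite S (E.X i) := fun i => (hE i).1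
  haveI hfree : ∀ i, Module.Free S (E.X i) := fun i => by
    haveI := (hE i).1; haveI := (hE i).2; exact Module.free_of_flat_of_isLocalRing
  let I : ℤ → Type u := fun i => Module.Free.ChooseBasisIndex S (E.X i)
  let β : ∀ i, Module.Basis (I i) S (E.X i) := fun i => Module.Free.chooseBasis S (E.X i)
  haveI : ∀ i, Fintype (I i) := fun i => Module.Free.ChooseBasisIndex.fintype S (E.X i)
  let ι : ∀ i, (I i →₀ R) →ₗ[R] E.X i := fun i => loc (β i)
  haveI hι : ∀ i, IsLocalizedModule p.primeCompl (ι i) := fun i =>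
    isLocalizedModule_loc p.primeCompl (β i)
  let δ : ∀ i, E.X i →ₗ[R] E.X (i + 1) := fun i => (E.d i (i + 1)).hom.restrictScalars R
  have hδ : ∀ i, δ (i + 1) ∘ₗ δ i = 0 := fun i => by
    ext x
    exact congrArg (fun φ => φ.hom x) (E.d_comp_d i (i + 1) (i + 1 + 1))
  have H1 : ∀ i, ∃ (h : (I i →₀ R) →ₗ[R] (I (i + 1) →₀ R)) (s : p.primeCompl),
      ι (i + 1) ∘ₗ h = s • (δ i ∘ₗ ι i) := fun i =>
    Module.FinitePresentation.exists_lift_of_isLocalizedModule p.primeCompl (ι (i + 1))
      (δ i ∘ₗ ι i)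
  choose h s hs using H1
  have H2 : ∀ i, ∃ t : p.primeCompl, t • (h (i + 1) ∘ₗ h i) =
      t • (0 : (I i →₀ R) →ₗ[R] (I (i + 1 + 1) →₀ R)) := fun i => by
    apply Module.Finite.exists_smul_of_comp_eq_of_isLocalizedModule p.primeCompl (ι (i + 1 + 1))
    rw [← LinearMap.comp_assoc, hs, LinearMap.smul_comp, LinearMap.comp_assoc, hs,
      LinearMap.comp_smul, ← LinearMap.comp_assoc, hδ]
    simp
  choose t ht using H2
  let D : ∀ i, (I i →₀ R) →ₗ[R] (I (i + 1) →₀ R) := fun i => (t i : R) • h i
  have hDD : ∀ i, D (i + 1) ∘ₗ D i = 0 := fun i => by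
    have h1 := ht i
    rw [smul_zero] at h1
    show ((t (i + 1) : R) • h (i + 1)) ∘ₗ ((t i : R) • h i) = 0
    rw [LinearMap.smul_comp, LinearMap.comp_smul]
    have h2 : (t i : R) • (h (i + 1) ∘ₗ h i) = 0 := h1
    rw [h2, smul_zero]
  let uS : ℤ → Sˣ := fun i => (IsLocalization.map_units S (t i * s i)).unit
  have huS : ∀ i, ((uS i : Sˣ) : S) = algebraMap R S ((t i : R) * (s i : R)) := fun i => rfl
  let c : ℤ → Sˣ := fun i => ∏ j ∈ Finset.Ico i b, uS j
  have hc : ∀ i, i < b → c i = uS i * c (i + 1) := fun i hi => prod_Ico_step uS i b hi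
  let ψ : ∀ i, (I i →₀ R) →ₗ[R] E.X i := fun i =>
    (unitSmul (R := R) (c i)).toLinearMap ∘ₗ ι i
  haveI hψ : ∀ i, IsLocalizedModule p.primeCompl (ψ i) := fun i =>
    IsLocalizedModule.of_linearEquiv p.primeCompl (ι i) (unitSmul (R := R) (c i))
  have hιD : ∀ i m, ι (i + 1) (D i m) = ((uS i : Sˣ) : S) • δ i (ι i m) := fun i m => by
    have h1 := LinearMap.congr_fun (hs i) m
    show ι (i + 1) (((t i : R) • h i) m) = _
    rw [LinearMap.smul_apply, map_smul]
    have h2 : ι (i + 1) (h i m) = (s i : R) • δ i (ι i m) := h1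
    rw [h2, huS, smul_smul, algebraMap_smul]
  have hcomm : ∀ i m, ψ (i + 1) (D i m) = E.d i (i + 1) (ψ i m) := fun i m => by
    by_cases hi : i < b
    · show ((c (i + 1) : Sˣ) : S) • ι (i + 1) (D i m) = E.d i (i + 1) (((c i : Sˣ) : S) • ι i m)
      rw [hιD, map_smul, hc i hi, smul_smul, Units.val_mul, mul_comm]
      rfl
    · haveI : Subsingleton (E.X (i + 1)) :=
        ModuleCat.subsingleton_of_isZero (hv (i + 1) (Or.inr (by omega)))
      exact Subsingleton.elim _ _
  let E'' : DRing.Cx R := CochainComplex.of (fun i => ModuleCat.of R (I i →₀ R))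
    (fun i => ModuleCat.ofHom (D i)) (fun i => by
      rw [← ModuleCat.ofHom_comp, hDD]
      rfl)
  have hE''d : ∀ i, E''.d i (i + 1) = ModuleCat.ofHom (D i) := fun i =>
    CochainComplex.of_d (fun i => ModuleCat.of R (I i →₀ R)) (fun i => ModuleCat.ofHom (D i)) i
  have hbc : ∀ i, IsBaseChange S (ψ i) := fun i =>
    IsLocalizedModule.isBaseChange p.primeCompl S (ψ i)
  let e : ∀ i, (extM (A := R) (B := S)).obj (E''.X i) ≅ E.X i := fun i =>
    ((extMEquiv (B := S) (E''.X i)).trans (hbc i).equiv).toModuleIso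
  have he : ∀ i (m : I i →₀ R), (e i).hom ((1 : S) ⊗ₜ[R] m) = ψ i m := fun i m => by
    show (hbc i).equiv ((extMEquiv (B := S) (E''.X i)) ((1 : S) ⊗ₜ[R] m)) = _
    have h1 : (extMEquiv (B := S) (E''.X i)) ((1 : S) ⊗ₜ[R] m) = (1 : S) ⊗ₜ[R] m := rfl
    rw [h1, IsBaseChange.equiv_tmul, one_smul]
  refine ⟨E'', ?_, ?_, ⟨HomologicalComplex.Hom.isoOfComponents e ?_⟩⟩
  · intro i hi
    haveI : Subsingleton (E.X i) := ModuleCat.subsingleton_of_isZero (hv i hi)
    haveI : IsEmpty (I i) := ⟨fun j => (β i).ne_zero j (Subsingleton.elim _ _)⟩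
    exact ModuleCat.isZero_of_subsingleton _
  · intro i
    exact ⟨inferInstanceAs (Module.Finite R (I i →₀ R)),
      inferInstanceAs (Module.Free R (I i →₀ R))⟩
  · rintro i j (rfl : i + 1 = j)
    apply ModuleCat.ExtendScalars.hom_ext
    intro m
    show E.d i (i + 1) ((e i).hom ((1 : S) ⊗ₜ[R] m)) =
      (e (i + 1)).hom ((extM (A := R) (B := S)).map (E''.d i (i + 1)) ((1 : S) ⊗ₜ[R] m))
    rw [he, hE''d]
    show E.d i (i + 1) (ψ i m) = (e (i + 1)).hom ((1 : S) ⊗ₜ[R] (D i m))
    rw [he]
    exact (hcomm i m).symm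

end Main

end Groth.Agent.Lib.Helper2.FlatAmpDesc.Clear
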