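import Groth.Agent.Lib.Helper2.Aff.FlatAmpAff
import Groth.Agent.Lib.Helper2.Stk.LpullAmp
import Groth.Agent.Lib.Helper2.Stk.PullKFlat
import Groth.Agent.Lib.Helper2.Stk.LpullOpen
import Groth.Agent.Lib.Helper2.LDer.DCohAmp
import Groth.Agent.Lib.Helper18.DRTorC

/-!
# Flat amplitude is a stalkwise property and descends along flat surjective morphisms (helper2)

* `hasFlatAmplitudeIn_of_stalks`: if all stalk complexes of `K₀` have tor amplitude in `[a, b]`
  then `K₀` has flat amplitude in `[a, b]`.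
* `stalk_amp_of_hasFlatAmplitudeIn`: the converse.
* `main`: flat amplitude descends along flat surjective morphisms.
-/

set_option autoImplicit false
set_option linter.style.haveILetI false
universe u
open CategoryTheory CategoryTheory.Limits AlgebraicGeometry TopologicalSpace Opposite
  HomologicalComplex TensorProduct

attribute [local instance] HasDerivedCategory.standard

namespace Groth.Agent.Lib.Helper2.FlatAmpDesc

open Groth.Agent.Lib.Helper2 Groth.Agent.Lib.Helper2.Stk Groth.Agent.Lib.Helper2.LDer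
  Groth.Agent.Lib.Helper2.LDer.DC
  Groth.Agent.Lib.Helper18 Groth.Agent.Lib.Helper18.DR DerivedCategory

local notation "cc" => ComplexShape.up ℤ

section Ring

/-- a faithfully flat algebra is a descent family -/
theorem descFam_faithfullyFlat (A B : Type u) [CommRing A] [CommRing B] [Algebra A B]
    [Module.FaithfullyFlat A B] : Aff.FlatAmp.DescFam' A (fun _ : Unit => B) where
  zero M _ _ h := by
    have := h ()
    exact (Module.FaithfullyFlat.subsingleton_tensorProduct_iff_right A B).1 this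
  flat M _ _ h := by
    haveI := h ()
    exact Module.Flat.of_flat_tensorProduct A M B

end Ring

variable {X : Scheme.{u}}

/-- tor amplitude of stalk complexes is invariant under quasi-isomorphisms -/
lemma stalk_amp_of_quasiIso {K L : CochainComplex X.Modules ℤ} (s : K ⟶ L) [QuasiIso s] (x : X)
    (a b : ℤ)
    (h : DRing.HasTorAmplitudeIn (X.presheaf.stalk x) a b (DRing.toD ((ΦC x).obj L))) :
    DRing.HasTorAmplitudeIn (X.presheaf.stalk x) a b (DRing.toD ((ΦC x).obj K)) := by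
  haveI : QuasiIso ((ΦC x).map s) := (quasiIso_iff_stalks s).1 inferInstance x
  haveI : IsIso (Q.map ((ΦC x).map s)) := (isIso_Q_map_iff_quasiIso _ _).2 inferInstance
  exact hasTorAmplitudeIn_of_iso (asIso (Q.map ((ΦC x).map s))).symm h

/-- flat amplitude gives tor amplitude of all stalk complexes -/
theorem stalk_amp_of_hasFlatAmplitudeIn (K : CochainComplex X.Modules ℤ) (a b : ℤ)
    (h : DCoh.HasFlatAmplitudeIn a b (DCoh.toD X K)) (x : X) :
    DRing.HasTorAmplitudeIn (X.presheaf.stalk x) a b (DRing.toD ((ΦC x).obj K)) := by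
  obtain ⟨F, hv, hfl, ⟨e⟩⟩ := h
  refine ⟨(ΦC x).obj F, fun j hj => (Φ x).map_isZero (hv j hj), fun j => hfl j x, ⟨?_⟩⟩
  exact ((Φ x).mapDerivedCategoryFactors.app F).symm ≪≫ (Φ x).mapDerivedCategory.mapIso e ≪≫
    (Φ x).mapDerivedCategoryFactors.app K

lemma exactAt_of_stalk_amp (K₀ : CochainComplex X.Modules ℤ) (a b : ℤ)
    (h : ∀ x : X, DRing.HasTorAmplitudeIn (X.presheaf.stalk x) a b (DRing.toD ((ΦC x).obj K₀)))
    (i : ℤ) (hi : i < a ∨ b < i) : K₀.ExactAt i := by
  rw [exactAt_iff_stalks]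
  intro x
  rw [← isZero_H_toD_iff_exactAt]
  rcases hi with hi | hi
  · haveI := isGE_of_hasTorAmplitudeIn (h x)
    exact isZero_of_isGE _ a i hi
  · haveI := isLE_of_hasTorAmplitudeIn (h x)
    exact isZero_of_isLE _ b i hi

/-- the stalk of a cokernel is the quotient by the range -/
noncomputable def stalkCokernelEquiv {M N : X.Modules} (d : M ⟶ N) (x : X) :
    (Φ x).obj (cokernel d) ≅
      ModuleCat.of (X.presheaf.stalk x) (((Φ x).obj N) ⧸ LinearMap.range ((Φ x).map d).hom) :=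
  PreservesCokernel.iso (Φ x) d ≪≫ ModuleCat.cokernelIsoRangeQuotient ((Φ x).map d)

theorem hasFlatAmplitudeIn_of_stalks (K₀ : CochainComplex X.Modules ℤ) (a b : ℤ) (hab : a ≤ b)
    (h : ∀ x : X, DRing.HasTorAmplitudeIn (X.presheaf.stalk x) a b (DRing.toD ((ΦC x).obj K₀))) :
    DCoh.HasFlatAmplitudeIn a b (DCoh.toD X K₀) := by
  have hH := exactAt_of_stalk_amp K₀ a b h
  haveI : K₀.IsLE b := by
    rw [CochainComplex.isLE_iff]
    intro i hi
    exact hH i (Or.inr hi)
  obtain ⟨Q₁, α, h1, h2, h3⟩ := exists_flat_resolution_of_isLE K₀ b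
  haveI := h1
  haveI := h3
  haveI : IsIso (Q.map α) := (isIso_Q_map_iff_quasiIso _ α).2 h3
  let e₁ : Q.obj Q₁ ≅ Q.obj K₀ := asIso (Q.map α)
  have hQ : ∀ x : X, DRing.HasTorAmplitudeIn (X.presheaf.stalk x) a b
      (DRing.toD ((ΦC x).obj Q₁)) := fun x => stalk_amp_of_quasiIso α x a b (h x)
  have hHQ := exactAt_of_stalk_amp Q₁ a b hQ
  haveI : Q₁.IsGE a := by
    rw [CochainComplex.isGE_iff]
    intro i hi
    exact hHQ i (Or.inl hi)
  have hcok : FlatMod.IsFlat (cokernel (Q₁.d (a - 1) a)) := by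
    intro x
    have hb : DRing.VanishesAbove ((ΦC x).obj Q₁) b := fun i hi =>
      (Φ x).map_isZero (Q₁.isZero_of_isStrictlyLE b i hi)
    have hfl : DRing.TermwiseFlat ((ΦC x).obj Q₁) := fun i => h2 i x
    haveI : Module.Flat (X.presheaf.stalk x)
        (((Φ x).obj (Q₁.X a)) ⧸ LinearMap.range ((Φ x).map (Q₁.d (a - 1) a)).hom) :=
      flat_cok_of_flat_of_hasTorAmplitudeIn ((ΦC x).obj Q₁) b hb hfl a b (hQ x)
    exact Module.Flat.of_linearEquiv (stalkCokernelEquiv (Q₁.d (a - 1) a) x).toLinearEquiv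
  haveI : IsIso (Q.map (Q₁.πTruncGE a)) :=
    (isIso_Q_map_iff_quasiIso _ _).2 inferInstance
  let e₂ : Q.obj Q₁ ≅ Q.obj (Q₁.truncGE a) := asIso (Q.map (Q₁.πTruncGE a))
  refine ⟨Q₁.truncGE a, ?_, ?_, ⟨e₂.symm ≪≫ e₁⟩⟩
  · intro i hi
    rcases hi with hi | hi
    · exact (Q₁.truncGE a).isZero_of_isStrictlyGE a i hi
    · exact IsZero.of_iso (Q₁.isZero_of_isStrictlyLE b i hi) (Q₁.truncGEXIso a i (by omega))
  · intro i
    rcases lt_trichotomy i a with h | h | h
    · exact isFlat_of_isZero ((Q₁.truncGE a).isZero_of_isStrictlyGE a i h)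
    · subst h
      have c1 := cokernelIsCokernel (Q₁.d (i - 1) i)
      have c2 := Q₁.opcyclesIsCokernel (i - 1) i (by simp)
      let i1 : cokernel (Q₁.d (i - 1) i) ≅ Q₁.opcycles i := c1.coconePointUniqueUpToIso c2
      exact StalkFlat.isFlat_of_iso (i1 ≪≫ (Q₁.truncGEXIsoOpcycles i).symm) hcok
    · exact StalkFlat.isFlat_of_iso (Q₁.truncGEXIso a i h).symm (h2 i)

/-- the degenerate case `b < a` -/
theorem hasFlatAmplitudeIn_of_stalks' (K₀ : CochainComplex X.Modules ℤ) (a b : ℤ) (hab : b < a)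
    (h : ∀ x : X, DRing.HasTorAmplitudeIn (X.presheaf.stalk x) a b (DRing.toD ((ΦC x).obj K₀))) :
    DCoh.HasFlatAmplitudeIn a b (DCoh.toD X K₀) := by
  have hH := exactAt_of_stalk_amp K₀ a b h
  have hz : ∀ i : ℤ, IsZero ((DerivedCategory.homologyFunctor X.Modules i).obj (Q.obj K₀)) :=
      fun i => by
    have : K₀.ExactAt i := hH i (by omega)
    rw [exactAt_iff_isZero_homology] at this
    exact this.of_iso ((DerivedCategory.homologyFunctorFactors X.Modules i).app K₀)
  haveI : (Q.obj K₀).IsLE 0 := by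
    rw [DerivedCategory.isLE_iff]; intro i _; exact hz i
  haveI : (Q.obj K₀).IsGE 1 := by
    rw [DerivedCategory.isGE_iff]; intro i _; exact hz i
  have hzero : IsZero (Q.obj K₀) := TStructure.t.isZero (Q.obj K₀) 0 1 (by omega)
  refine ⟨(Limits.HasZeroObject.zero' (CochainComplex X.Modules ℤ)).zero, fun i _ => ?_, fun i => isFlat_of_isZero ?_,
    ⟨(IsZero.iso ?_ hzero)⟩⟩
  · exact Functor.map_isZero (HomologicalComplex.eval _ _ i) (isZero_zero _)
  · exact Functor.map_isZero (HomologicalComplex.eval _ _ i) (isZero_zero _)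
  · exact Functor.map_isZero Q (isZero_zero _)

theorem hasFlatAmplitudeIn_iff_stalks (K₀ : CochainComplex X.Modules ℤ) (a b : ℤ) :
    DCoh.HasFlatAmplitudeIn a b (DCoh.toD X K₀) ↔
      ∀ x : X, DRing.HasTorAmplitudeIn (X.presheaf.stalk x) a b (DRing.toD ((ΦC x).obj K₀)) := by
  refine ⟨fun h x => stalk_amp_of_hasFlatAmplitudeIn K₀ a b h x, fun h => ?_⟩
  by_cases hab : a ≤ b
  · exact hasFlatAmplitudeIn_of_stalks K₀ a b hab h
  · exact hasFlatAmplitudeIn_of_stalks' K₀ a b (by omega) h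

section Desc

variable {Y : Scheme.{u}} (f : X ⟶ Y)

/-- descent of stalkwise tor amplitude along a flat morphism, at a point of the image -/
theorem stalk_amp_descent [Flat f] (P : CochainComplex Y.Modules ℤ) (a b : ℤ) (x : X)
    (h : DRing.HasTorAmplitudeIn (X.presheaf.stalk x) a b
      (DRing.toD ((ΦC x).obj ((pullC f).obj P)))) :
    DRing.HasTorAmplitudeIn (Y.presheaf.stalk (f.base x)) a b
      (DRing.toD ((ΦC (f.base x)).obj P)) := by
  letI : Algebra (Y.presheaf.stalk (f.base x)) (X.presheaf.stalk x) := (φst f x).toAlgebra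
  haveI : Module.Flat (Y.presheaf.stalk (f.base x)) (X.presheaf.stalk x) := Flat.stalkMap f x
  haveI : IsLocalHom (algebraMap (Y.presheaf.stalk (f.base x)) (X.presheaf.stalk x)) :=
    inferInstanceAs (IsLocalHom (f.stalkMap x).hom)
  haveI : Module.FaithfullyFlat (Y.presheaf.stalk (f.base x)) (X.presheaf.stalk x) :=
    Module.FaithfullyFlat.of_flat_of_isLocalHom
  refine (descFam_faithfullyFlat (Y.presheaf.stalk (f.base x))
    (X.presheaf.stalk x)).hasTorAmplitudeIn _ a b (fun _ => ?_)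
  refine hasTorAmplitudeIn_of_iso ?_ h
  exact Q.mapIso (pullStalkCxIso f P x) ≪≫
    (mapDToDIso (extM (A := Y.presheaf.stalk (f.base x)) (B := X.presheaf.stalk x))
      ((ΦC (f.base x)).obj P)).symm

theorem main [Flat f] [Surjective f] [DCoh.HasLpull f] (E : DCoh.D Y) (a b : ℤ)
    (h : DCoh.HasFlatAmplitudeIn a b ((DCoh.Lpull f).obj E)) :
    DCoh.HasFlatAmplitudeIn a b E := by
  obtain ⟨P, hP, ⟨e⟩⟩ := exists_kflat_model E
  have h' : DCoh.HasFlatAmplitudeIn a b (DCoh.toD X ((pullC f).obj P)) := by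
    obtain ⟨F, hv, hfl, ⟨eF⟩⟩ := h
    exact ⟨F, hv, hfl, ⟨eF ≪≫ (DCoh.Lpull f).mapIso e.symm ≪≫ LpullIso f P hP⟩⟩
  have hst : ∀ y : Y, DRing.HasTorAmplitudeIn (Y.presheaf.stalk y) a b
      (DRing.toD ((ΦC y).obj P)) := by
    intro y
    obtain ⟨x, rfl⟩ := f.surjective y
    exact stalk_amp_descent f P a b x (stalk_amp_of_hasFlatAmplitudeIn _ a b h' x)
  obtain ⟨F, hv, hfl, ⟨eF⟩⟩ := (hasFlatAmplitudeIn_iff_stalks P a b).2 hst
  exact ⟨F, hv, hfl, ⟨eF ≪≫ e⟩⟩

end Desc

end Groth.Agent.Lib.Helper2.FlatAmpDesc
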