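import Groth.Agent.Lib.Helper2.FlatAmpDesc.Core
import Groth.Agent.Lib.Helper2.RHom.TorAmpPush

/-!
# Flat amplitude versus stalkwise tor amplitude relative to the identity (helper2)
-/

set_option autoImplicit false
set_option linter.style.haveILetI false
universe u
open CategoryTheory CategoryTheory.Limits AlgebraicGeometry TopologicalSpace Opposite
  HomologicalComplex TensorProduct

attribute [local instance] HasDerivedCategory.standard

namespace Groth.Agent.Lib.Helper2.FlatAmpDesc

open Groth.Agent.Lib.Helper2 Groth.Agent.Lib.Helper2.Stk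
  Groth.Agent.Lib.Helper18 Groth.Agent.Lib.Helper18.DR DerivedCategory

local notation "cc" => ComplexShape.up ℤ

section Ring

variable {R S : Type u} [CommRing R] [CommRing S]

/-- restriction of scalars along a flat ring map preserves tor amplitude -/
theorem hasTorAmplitudeIn_restrict (ψ : R →+* S) (hψ : ψ.Flat) (C : DRing.Cx S) (a b : ℤ)
    (h : DRing.HasTorAmplitudeIn S a b (DRing.toD C)) :
    DRing.HasTorAmplitudeIn R a b
      (DRing.toD (((ModuleCat.restrictScalars ψ).mapHomologicalComplex cc).obj C)) := by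
  obtain ⟨E, hv, hfl, ⟨e⟩⟩ := h
  let G := ModuleCat.restrictScalars.{u} ψ
  refine ⟨(G.mapHomologicalComplex cc).obj E, fun n hn => G.map_isZero (hv n hn), fun n => ?_,
    ⟨(G.mapDerivedCategoryFactors.app E).symm ≪≫ G.mapDerivedCategory.mapIso e ≪≫
      G.mapDerivedCategoryFactors.app C⟩⟩
  letI : Algebra R S := ψ.toAlgebra
  haveI : Module.Flat R S := hψ
  haveI : Module.Flat S (E.X n) := hfl n
  letI : Module R (E.X n) := Module.compHom (E.X n) ψ
  haveI : IsScalarTower R S (E.X n) := IsScalarTower.of_algebraMap_smul (fun r m => rfl)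
  exact Module.Flat.trans R S (E.X n)

/-- for a bijective ring map, restriction of scalars reflects tor amplitude -/
theorem hasTorAmplitudeIn_of_restrict_bijective (ψ : R →+* S) (hψ : Function.Bijective ψ)
    (C : DRing.Cx S) (a b : ℤ)
    (h : DRing.HasTorAmplitudeIn R a b
      (DRing.toD (((ModuleCat.restrictScalars ψ).mapHomologicalComplex cc).obj C))) :
    DRing.HasTorAmplitudeIn S a b (DRing.toD C) := by
  let e : R ≃+* S := RingEquiv.ofBijective ψ hψ
  let ψ' : S →+* R := e.symm.toRingHom
  have hψ' : ψ'.Flat := RingHom.Flat.of_bijective e.symm.bijective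
  have hcomp : RingHom.id S = ψ.comp ψ' := by
    ext s
    exact (e.apply_symm_apply s).symm
  have h1 := hasTorAmplitudeIn_restrict ψ' hψ' _ a b h
  let ι : ModuleCat.restrictScalars.{u} ψ ⋙ ModuleCat.restrictScalars.{u} ψ' ≅ 𝟭 _ :=
    (ModuleCat.restrictScalarsComp' ψ' ψ (RingHom.id S) hcomp).symm ≪≫
      ModuleCat.restrictScalarsId S
  refine hasTorAmplitudeIn_of_iso (Q.mapIso ?_) h1
  exact (Functor.mapHomologicalComplexCompIso ι cc).app C ≪≫
    (Functor.mapHomologicalComplexIdIso _ cc).app C

end Ring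

variable {X : Scheme.{u}}

theorem hasFlatAmplitudeIn_iff_hasTorAmplitude_id (F : CochainComplex X.Modules ℤ) (a b : ℤ) :
    DCoh.HasFlatAmplitudeIn a b (DCoh.toD X F) ↔ DerSch.HasTorAmplitude (𝟙 X) a b F := by
  rw [hasFlatAmplitudeIn_iff_stalks]
  have hbij : ∀ x : X, Function.Bijective ((𝟙 X : X ⟶ X).stalkMap x).hom := fun x =>
    ConcreteCategory.bijective_of_isIso ((𝟙 X : X ⟶ X).stalkMap x)
  constructor
  · intro h x
    exact hasTorAmplitudeIn_restrict ((𝟙 X : X ⟶ X).stalkMap x).hom
      (RingHom.Flat.of_bijective (hbij x)) ((ΦC x).obj F) a b (h x)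
  · intro h x
    exact hasTorAmplitudeIn_of_restrict_bijective ((𝟙 X : X ⟶ X).stalkMap x).hom (hbij x)
      ((ΦC x).obj F) a b (h x)

end Groth.Agent.Lib.Helper2.FlatAmpDesc
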