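import Groth.Agent.Lib.Helper18.HomLoc5

/-!
# Lifting an isomorphism of localizations to a map (helper2)

`exists_map_isIso_ext`: for `P` K-projective and pseudo-coherent, `K` bounded below, and an isomorphism
`Q(P ⊗ B) ≅ Q(K ⊗ B)` over a localization `B` of `A`, there is a chain map `P ⟶ K` whose base change
to `B` is a quasi-isomorphism.
-/

set_option autoImplicit false
set_option linter.style.haveILetI false
universe u
open CategoryTheory CategoryTheory.Limits CategoryTheory.Pretriangulated DerivedCategory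

attribute [local instance] HasDerivedCategory.standard

namespace Groth.Agent.Lib.Helper2.FlatAmpDesc.LocIso

open Groth.Agent.Lib.Helper18.DR Groth.Agent.Lib.Helper18.DR.HomLoc DTen

variable {A : Type u} [CommRing A] (S : Submonoid A) {B : Type u} [CommRing B] [Algebra A B]
  [IsLocalization S B]

omit S [IsLocalization S B] in
lemma γ_naturality {P K : DRing.Cx A} (f : P ⟶ K) :
    DerivedCategory.Q.map f ≫ γ (algebraMap A B) K =
      γ (algebraMap A B) P ≫ (DRing.restrictD (algebraMap A B)).map
        (DerivedCategory.Q.map ((extCx (algebraMap A B)).map f)) := by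
  have h1 := (unitCx (algebraMap A B)).naturality f
  have h2 := (resFactors (algebraMap A B)).inv.naturality ((extCx (algebraMap A B)).map f)
  dsimp at h1 h2 ⊢
  dsimp [γ]
  rw [Category.assoc, ← h2, ← Category.assoc, ← Category.assoc, ← Functor.map_comp,
    ← Functor.map_comp, h1]

include S in
theorem exists_map_isIso_ext (P K : DRing.Cx A) [P.IsKProjective]
    (hP : DRing.IsPseudoCoherent' A (DRing.toD P)) (n₀ : ℤ) [(DRing.toD K).IsGE n₀]
    (θ : DerivedCategory.Q.obj ((extCx (algebraMap A B)).obj P) ≅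
      DerivedCategory.Q.obj ((extCx (algebraMap A B)).obj K)) :
    ∃ f : P ⟶ K, IsIso (DerivedCategory.Q.map ((extCx (algebraMap A B)).map f)) := by
  have hη : SLoc S (γ (algebraMap A B) K) := sloc_γ S B K
  haveI : (DerivedCategory.Q.obj K).IsGE n₀ := ‹_›
  haveI := isGE_restrict_of_sloc S hη n₀
  obtain ⟨s, hs, ψ, hψ⟩ := (locProp_of_isPseudoCoherent' hη n₀ (DRing.toD P) hP).surj
    (γ (algebraMap A B) P ≫ (DRing.restrictD (algebraMap A B)).map θ.hom)
  obtain ⟨f, hf⟩ := exists_map_eq P K ψ
  refine ⟨f, ?_⟩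
  have h1 : γ (algebraMap A B) P ≫ (DRing.restrictD (algebraMap A B)).map
      (DerivedCategory.Q.map ((extCx (algebraMap A B)).map f)) =
      γ (algebraMap A B) P ≫ (DRing.restrictD (algebraMap A B)).map
        ((algebraMap A B s) • θ.hom) := by
    rw [← γ_naturality, hf, ← hψ, γ_comp_map_smul]
  have h2 := (γ_bijective (algebraMap A B) P _).1 h1
  rw [h2]
  obtain ⟨u, hu⟩ := IsLocalization.map_units B (⟨s, hs⟩ : S)
  have hu' : algebraMap A B s = (u : B) := hu.symm
  refine ⟨(↑u⁻¹ : B) • θ.inv, ?_, ?_⟩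
  · rw [Linear.smul_comp, Linear.comp_smul, smul_smul, θ.hom_inv_id, hu', Units.mul_inv, one_smul]
  · rw [Linear.smul_comp, Linear.comp_smul, smul_smul, θ.inv_hom_id, hu', Units.inv_mul, one_smul]

end Groth.Agent.Lib.Helper2.FlatAmpDesc.LocIso
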