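import Groth.Agent.Lib.Helper2.FlatAmpDesc.Core
import Groth.Agent.Lib.Helper13.PerfTor

/-!
# Perfect amplitude = pseudo-coherent + flat amplitude (helper2)
-/

set_option autoImplicit false
set_option linter.style.haveILetI false
set_option backward.isDefEq.respectTransparency false
universe u
open CategoryTheory CategoryTheory.Limits AlgebraicGeometry TopologicalSpace Opposite
  HomologicalComplex TensorProduct

attribute [local instance] HasDerivedCategory.standard

namespace Groth.Agent.Lib.Helper2.FlatAmpDesc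

open AlgebraicGeometry.Scheme.Modules
open Groth.Agent.Lib.Helper2 Groth.Agent.Lib.Helper2.Stk Groth.Agent.Lib.Helper2.LDer
  Groth.Agent.Lib.Helper2.LDer.DC
  Groth.Agent.Lib.Helper18 Groth.Agent.Lib.Helper18.DR DerivedCategory
open Groth.Agent.Lib.Helper13 Groth.Agent.Lib.Helper3 Groth.Agent.Lib.Helper17
open Groth.Agent.Lib.Helper13.PerfTri Groth.Agent.Lib.Helper13.PCohFT

local notation "cc" => ComplexShape.up ℤ

variable {X : Scheme.{u}}

/-- the cokernel of `Q^{a-1} ⟶ Q^a` is flat when the stalks have tor amplitude in `[a, b]` -/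
theorem isFlat_cokernel_of_stalk_amp (Q₁ : CochainComplex X.Modules ℤ) (a b : ℤ)
    [Q₁.IsStrictlyLE b] (h2 : ∀ i, FlatMod.IsFlat (Q₁.X i))
    (hQ : ∀ x : X, DRing.HasTorAmplitudeIn (X.presheaf.stalk x) a b
      (DRing.toD ((ΦC x).obj Q₁))) :
    FlatMod.IsFlat (cokernel (Q₁.d (a - 1) a)) := by
  intro x
  have hb : DRing.VanishesAbove ((ΦC x).obj Q₁) b := fun i hi =>
    (Φ x).map_isZero (Q₁.isZero_of_isStrictlyLE b i hi)
  have hfl : DRing.TermwiseFlat ((ΦC x).obj Q₁) := fun i => h2 i x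
  haveI : Module.Flat (X.presheaf.stalk x)
      (((Φ x).obj (Q₁.X a)) ⧸ LinearMap.range ((Φ x).map (Q₁.d (a - 1) a)).hom) :=
    flat_cok_of_flat_of_hasTorAmplitudeIn ((ΦC x).obj Q₁) b hb hfl a b (hQ x)
  exact Module.Flat.of_linearEquiv (stalkCokernelEquiv (Q₁.d (a - 1) a) x).toLinearEquiv

/-- the cokernel of a morphism of finite locally free modules is quasi-coherent and finitely
presented -/
theorem isFinitePresentation_cokernel {F G : X.Modules} (φ : F ⟶ G)
    (hF : FlatMod.IsFinLocFree F) (hG : FlatMod.IsFinLocFree G) :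
    (cokernel φ).IsQuasicoherent ∧
      SheafOfModules.IsFinitePresentation (R := X.ringCatSheaf) (cokernel φ) := by
  haveI qF := LocFreeCrit.isQuasicoherent_of_isFinLocFree hF
  haveI qG := LocFreeCrit.isQuasicoherent_of_isFinLocFree hG
  haveI qH : (cokernel φ).IsQuasicoherent := QCProps.isQuasicoherent_cokernel φ
  refine ⟨qH, ?_⟩
  let S : ShortComplex X.Modules := ShortComplex.mk φ (cokernel.π φ) (cokernel.condition φ)
  have hS : S.Exact := ShortComplex.exact_of_g_is_cokernel S (cokernelIsCokernel φ)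
  rw [QCProps.isFinitePresentation_iff_finitePresentation_sections]
  intro U hU
  obtain ⟨hfF, hpF⟩ := LocFreeCrit.finite_projective_sections hF hU
  obtain ⟨hfG, hpG⟩ := LocFreeCrit.finite_projective_sections hG hU
  haveI : Module.FinitePresentation Γ(X, U) Γ(G, U) :=
    Module.finitePresentation_of_projective _ _
  refine Module.finitePresentation_of_surjective (QCProps.appₗ (cokernel.π φ) U)
    ((QCExact.epi_iff_surjective_on_affines (cokernel.π φ)).1 inferInstance U hU) ?_
  have hker : LinearMap.ker (QCProps.appₗ (cokernel.π φ) U) =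
      LinearMap.range (QCProps.appₗ φ U) := by
    ext y
    constructor
    · intro hy
      have hy' : (cokernel.π φ).app U y = 0 := hy
      obtain ⟨x, hx⟩ := exact_sections_affine S hS hU y hy'
      exact ⟨x, hx⟩
    · rintro ⟨x, rfl⟩
      show (cokernel.π φ).app U (φ.app U x) = 0
      exact QCExact.app_f_g_apply S U x
  rw [hker]
  exact Submodule.fg_range _

/-- **double truncation**: a strictly perfect complex whose stalks have tor amplitude in
`[m, n]` is isomorphic in the derived category to a complex of finite locally free modules placed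
in `[m, n]` -/
theorem exists_truncation (P : CochainComplex X.Modules ℤ) (hP : DCoh.IsStrictlyPerfect P)
    (m n : ℤ) (hmn : m ≤ n)
    (hQ : ∀ x : X, DRing.HasTorAmplitudeIn (X.presheaf.stalk x) m n
      (DRing.toD ((ΦC x).obj P))) :
    ∃ E : CochainComplex X.Modules ℤ, DCoh.VanishesOutside E m n ∧
      (∀ i : ℤ, FlatMod.IsFinLocFree (E.X i)) ∧ Nonempty (Q.obj P ≅ Q.obj E) := by
  obtain ⟨⟨p, q, hpq⟩, hfl⟩ := hP
  have hH := exactAt_of_stalk_amp P m n hQ
  haveI : P.IsStrictlyLE q := by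
    rw [CochainComplex.isStrictlyLE_iff]
    intro i hi
    exact hpq i (Or.inr hi)
  haveI : P.IsGE m := by
    rw [CochainComplex.isGE_iff]
    intro i hi
    exact hH i (Or.inl hi)
  haveI : P.IsLE n := by
    rw [CochainComplex.isLE_iff]
    intro i hi
    exact hH i (Or.inr hi)
  have hflat : ∀ i, FlatMod.IsFlat (P.X i) := fun i => PerfTor.isFlat_of_isFinLocFree' (hfl i)
  -- the bottom truncation
  have hQ' : ∀ x : X, DRing.HasTorAmplitudeIn (X.presheaf.stalk x) m (max n q)
      (DRing.toD ((ΦC x).obj P)) := fun x =>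
    hasTorAmplitudeIn_mono (hQ x) le_rfl (le_max_left n q)
  haveI : P.IsStrictlyLE (max n q) := by
    rw [CochainComplex.isStrictlyLE_iff]
    intro i hi
    exact hpq i (Or.inr (lt_of_le_of_lt (le_max_right n q) hi))
  have hcokflat : FlatMod.IsFlat (cokernel (P.d (m - 1) m)) :=
    isFlat_cokernel_of_stalk_amp P m (max n q) hflat hQ'
  obtain ⟨qc, fp⟩ := isFinitePresentation_cokernel (P.d (m - 1) m) (hfl (m - 1)) (hfl m)
  haveI := qc
  haveI := fp
  have hcok : FlatMod.IsFinLocFree (cokernel (P.d (m - 1) m)) :=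
    FinLocFreeSec.isFinLocFree_of_isFlat _ hcokflat
  let K := P.truncGE m
  haveI : IsIso (Q.map (P.πTruncGE m)) := (isIso_Q_map_iff_quasiIso _ _).2 inferInstance
  let e₁ : Q.obj P ≅ Q.obj K := asIso (Q.map (P.πTruncGE m))
  have hKfl : ∀ i, FlatMod.IsFinLocFree (K.X i) := by
    intro i
    rcases lt_trichotomy i m with h | h | h
    · exact PerfLocal.isFinLocFree_of_isZero (K.isZero_of_isStrictlyGE m i h)
    · subst h
      have c1 := cokernelIsCokernel (P.d (i - 1) i)
      have c2 := P.opcyclesIsCokernel (i - 1) i (by simp)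
      let i1 : cokernel (P.d (i - 1) i) ≅ P.opcycles i := c1.coconePointUniqueUpToIso c2
      exact LocFreeCrit.isFinLocFree_of_iso (i1 ≪≫ (P.truncGEXIsoOpcycles i).symm) hcok
    · exact LocFreeCrit.isFinLocFree_of_iso (P.truncGEXIso m i h).symm (hfl i)
  have hKv : DCoh.VanishesOutside K m (max q m) := by
    intro i hi
    rcases hi with hi | hi
    · exact K.isZero_of_isStrictlyGE m i hi
    · have h1 : q < i := lt_of_le_of_lt (le_max_left q m) hi
      have h2 : m < i := lt_of_le_of_lt (le_max_right q m) hi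
      exact IsZero.of_iso (hpq i (Or.inr h1)) (P.truncGEXIso m i h2)
  have hK : DCoh.IsStrictlyPerfect K := ⟨⟨m, max q m, hKv⟩, hKfl⟩
  haveI : QuasiIso (P.πTruncGE m) := inferInstance
  haveI : K.IsLE n := by
    rw [CochainComplex.isLE_iff]
    intro i hi
    have h1 : P.ExactAt i := hH i (Or.inr hi)
    rw [exactAt_iff_isZero_homology] at h1 ⊢
    haveI : IsIso (homologyMap (P.πTruncGE m) i) := by
      have : QuasiIsoAt (P.πTruncGE m) i := inferInstance
      exact (quasiIsoAt_iff_isIso_homologyMap (P.πTruncGE m) i).1 this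
    exact IsZero.of_iso h1 (asIso (homologyMap (P.πTruncGE m) i)).symm
  have hKh : ∀ i : ℤ, n < i → IsZero (K.homology i) := fun i hi => by
    have := K.exactAt_of_isLE n i hi
    rwa [exactAt_iff_isZero_homology] at this
  have hcyc : FlatMod.IsFinLocFree (K.cycles n) := isFinLocFree_cycles K hK n hKh n le_rfl
  haveI : IsIso (Q.map (K.ιTruncLE n)) := (isIso_Q_map_iff_quasiIso _ _).2 inferInstance
  let e₂ : Q.obj (K.truncLE n) ≅ Q.obj K := asIso (Q.map (K.ιTruncLE n))
  refine ⟨K.truncLE n, ?_, ?_, ⟨e₁ ≪≫ e₂.symm⟩⟩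
  · intro i hi
    rcases hi with hi | hi
    · exact IsZero.of_iso (K.isZero_of_isStrictlyGE m i hi) (K.truncLEXIso n i (by omega))
    · exact (K.truncLE n).isZero_of_isStrictlyLE n i hi
  · intro i
    rcases lt_trichotomy i n with h | h | h
    · exact LocFreeCrit.isFinLocFree_of_iso (K.truncLEXIso n i h).symm (hKfl i)
    · subst h
      exact LocFreeCrit.isFinLocFree_of_iso (K.truncLEXIsoCycles i).symm hcyc
    · exact PerfLocal.isFinLocFree_of_isZero ((K.truncLE n).isZero_of_isStrictlyLE n i h)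

/-- stalkwise tor amplitude can be checked after restriction to an open neighbourhood -/
theorem stalk_amp_of_restrict (V : X.Opens) (F : CochainComplex X.Modules ℤ) (a b : ℤ) (x : X)
    (hx : x ∈ V)
    (h : DRing.HasTorAmplitudeIn ((V : Scheme.{u}).presheaf.stalk ⟨x, hx⟩) a b
      (DRing.toD ((ΦC (X := (V : Scheme.{u})) ⟨x, hx⟩).obj ((DCoh.restrictCx V).obj F)))) :
    DRing.HasTorAmplitudeIn (X.presheaf.stalk x) a b (DRing.toD ((ΦC x).obj F)) := by
  have h' : DRing.HasTorAmplitudeIn ((V : Scheme.{u}).presheaf.stalk ⟨x, hx⟩) a b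
      (DRing.toD ((ΦC (X := (V : Scheme.{u})) ⟨x, hx⟩).obj ((pullC V.ι).obj F))) :=
    hasTorAmplitudeIn_of_iso (Q.mapIso ((ΦC (X := (V : Scheme.{u})) ⟨x, hx⟩).mapIso
      ((NatIso.mapHomologicalComplex (Scheme.Modules.restrictFunctorIsoPullback V.ι) cc).app F))) h
  exact stalk_amp_descent V.ι F a b ⟨x, hx⟩ h'

theorem hasPerfectAmplitudeIn_iff (E : DCoh.D X) (m n : ℤ) (hmn : m ≤ n) :
    KSix.HasPerfectAmplitudeIn m n E ↔
      DCoh.IsPseudoCoherentD (m - 1) E ∧ DCoh.HasFlatAmplitudeIn m n E := by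
  constructor
  · intro h
    have hperf : DCoh.IsPerfect E := by
      intro x
      obtain ⟨V, hxV, hV⟩ := h x
      refine ⟨V, hxV, fun F hF => ?_⟩
      obtain ⟨E', hv, hfl, hiso⟩ := hV F hF
      exact ⟨E', ⟨⟨m, n, hv⟩, hfl⟩, hiso⟩
    refine ⟨PerfTor.isPC_of_isPerfect E hperf (m - 1), ?_⟩
    let F := Q.objPreimage E
    let e : Q.obj F ≅ E := Q.objObjPreimageIso E
    refine PerfTor.hasFlatAmp_of_iso e ((hasFlatAmplitudeIn_iff_stalks F m n).2 (fun x => ?_))
    obtain ⟨V, hxV, hV⟩ := h x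
    obtain ⟨E', hv, hfl, ⟨i⟩⟩ := hV F ⟨e⟩
    have h1 : DCoh.HasFlatAmplitudeIn m n (DCoh.toD _ ((DCoh.restrictCx V).obj F)) :=
      ⟨E', hv, fun k => PerfTor.isFlat_of_isFinLocFree' (hfl k), ⟨i.symm⟩⟩
    exact stalk_amp_of_restrict V F m n x hxV
      (stalk_amp_of_hasFlatAmplitudeIn _ m n h1 ⟨x, hxV⟩)
  · rintro ⟨hpc, hfa⟩
    have hperf := PerfTor.main E m n hmn hfa hpc
    intro x
    obtain ⟨V, hxV, P, hP, ⟨eP⟩⟩ := (isPerfect_iff E).1 hperf x
    refine ⟨V, hxV, fun F hF => ?_⟩
    obtain ⟨hF⟩ := hF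
    have hfaV : DCoh.HasFlatAmplitudeIn m n (Q.obj P) :=
      PerfTor.hasFlatAmp_of_iso eP (PerfTor.hasFlatAmp_restrict V.ι m n E hfa)
    obtain ⟨E', hv, hfl, ⟨i⟩⟩ := exists_truncation P hP m n hmn
      (fun y => stalk_amp_of_hasFlatAmplitudeIn P m n hfaV y)
    refine ⟨E', hv, hfl, ⟨?_ ≪≫ eP ≪≫ i⟩⟩
    exact ((restrictFunctor V.ι).mapDerivedCategoryFactors.app F).symm ≪≫
      (DCoh.restrictD V.ι).mapIso hF

end Groth.Agent.Lib.Helper2.FlatAmpDesc
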