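import Groth.Agent.Lib.Helper2.FlatAmpDesc.PerfAmp
import Groth.Agent.Lib.Helper13.FreeLocus
import Groth.Agent.Lib.Helper18.DRTorZ2
import Groth.Agent.Lib.Helper13.LocNull

/-!
# Spreading out perfectness from a stalk for pseudo-coherent complexes (helper2)
-/

set_option autoImplicit false
set_option linter.style.haveILetI false
set_option backward.isDefEq.respectTransparency false
universe u
open CategoryTheory CategoryTheory.Limits AlgebraicGeometry TopologicalSpace Opposite
  HomologicalComplex TensorProduct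

attribute [local instance] HasDerivedCategory.standard

namespace Groth.Agent.Lib.Helper2.FlatAmpDesc

open AlgebraicGeometry.Scheme.Modules
open Groth.Agent.Lib.Helper2 Groth.Agent.Lib.Helper2.Stk Groth.Agent.Lib.Helper2.LDer
  Groth.Agent.Lib.Helper2.LDer.DC
  Groth.Agent.Lib.Helper18 Groth.Agent.Lib.Helper18.DR DerivedCategory
open Groth.Agent.Lib.Helper13 Groth.Agent.Lib.Helper3 Groth.Agent.Lib.Helper17
open Groth.Agent.Lib.Helper13.PerfTri Groth.Agent.Lib.Helper13.PCohFT

local notation "cc" => ComplexShape.up ℤ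

section Ring

variable {R : Type u} [CommRing R]

/-- variant of `flat_cok_of_flat_of_hasTorAmplitudeIn` assuming flatness only above degree `a` -/
theorem flat_cok_of_flat_above (K : DRing.Cx R) (b : ℤ)
    (hb : DRing.VanishesAbove K b) (a c : ℤ) (hflat : ∀ i, a < i → Module.Flat R (K.X i))
    (hamp : DRing.HasTorAmplitudeIn R a c (DRing.toD K)) :
    Module.Flat R ((K.X a) ⧸ LinearMap.range (K.d (a - 1) a).hom) := by
  obtain ⟨b', hb1, hb2⟩ : ∃ b' : ℤ, b ≤ b' + 1 ∧ c ≤ b' :=
    ⟨max b c, by have := le_max_left b c; omega, le_max_right b c⟩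
  have hfl : DRing.TermwiseFlat (sigmaGE K (a + 1)) := by
    intro i
    by_cases h : a + 1 ≤ i
    · haveI := hflat i (by omega)
      exact Module.Flat.of_linearEquiv (sigmaGEXIso K (a + 1) h).toLinearEquiv
    · haveI : Subsingleton ((sigmaGE K (a + 1)).X i) :=
        ModuleCat.subsingleton_of_isZero (isZero_sigmaGE_X K (a + 1) (by omega))
      infer_instance
  have h1 : DRing.HasTorAmplitudeIn R (a + 1) (b' + 1) (DRing.toD (sigmaGE K (a + 1))) :=
    ⟨sigmaGE K (a + 1), VanishesOutside.mono (vanishesOutside_sigmaGE K (a + 1) hb) le_rfl hb1,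
      hfl, ⟨Iso.refl _⟩⟩
  have h2 : DRing.HasTorAmplitudeIn R a b' (DRing.toD K) := hasTorAmplitudeIn_mono hamp le_rfl hb2
  have h3 : DRing.HasTorAmplitudeIn R a b' (DRing.toD (sigmaLT K (a + 1))) :=
    hasTorAmplitudeIn_obj₃ (sigmaTriangle K (a + 1)) (sigmaTriangle_distinguished K (a + 1)) a b'
      h1 h2
  haveI : (sigmaLT K (a + 1)).IsStrictlyLE a := by
    have : (sigmaLT K (a + 1)).IsStrictlyLE (a + 1 - 1) := inferInstance
    rwa [show a + 1 - 1 = a by omega] at this
  haveI : (DRing.toD (sigmaLT K (a + 1))).IsLE a := inferInstance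
  haveI := flat_H_of_hasTorAmplitudeIn (DRing.toD (sigmaLT K (a + 1))) a b' h3
  obtain ⟨e⟩ := nonempty_cokEquivH K a
  exact Module.Flat.of_linearEquiv e

end Ring

section TR

variable {A : Type*} [Category A] [Abelian A] [HasDerivedCategory A]

/-- a morphism in the derived category which is an isomorphism on cohomology in degrees `≥ a`,
with target in `D^{≥ a}`, induces an isomorphism from the canonical truncation of the source -/
theorem nonempty_iso_truncGE (P L : CochainComplex A ℤ) (a : ℤ) [L.IsGE a]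
    (α : Q.obj P ⟶ Q.obj L)
    (hα : ∀ i : ℤ, a ≤ i → IsIso ((DerivedCategory.homologyFunctor A i).map α)) :
    Nonempty (Q.obj (P.truncGE a) ≅ Q.obj L) := by
  obtain ⟨P', s, hs, g, rfl⟩ := right_fac α
  haveI : QuasiIso s := (isIso_Q_map_iff_quasiIso _ s).1 hs
  have hg : ∀ i : ℤ, a ≤ i → QuasiIsoAt g i := by
    intro i hi
    have h1 := hα i hi
    rw [Functor.map_comp, Functor.map_inv] at h1
    have h2 : IsIso ((DerivedCategory.homologyFunctor A i).map (Q.map g)) :=
      IsIso.of_isIso_comp_left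
        (inv ((DerivedCategory.homologyFunctor A i).map (Q.map s))) _
    have h3 : IsIso ((HomologicalComplex.homologyFunctor A cc i).map g) :=
      (NatIso.isIso_map_iff (DerivedCategory.homologyFunctorFactors A i) g).1 h2
    rw [quasiIsoAt_iff_isIso_homologyMap]
    exact h3
  haveI : QuasiIso (CochainComplex.truncGEMap s a) :=
    (CochainComplex.quasiIso_truncGEMap_iff s a).2 (fun i _ => inferInstance)
  haveI : QuasiIso (CochainComplex.truncGEMap g a) :=
    (CochainComplex.quasiIso_truncGEMap_iff g a).2 hg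
  haveI : IsIso (Q.map (CochainComplex.truncGEMap s a)) :=
    (isIso_Q_map_iff_quasiIso _ _).2 inferInstance
  haveI : IsIso (Q.map (CochainComplex.truncGEMap g a)) :=
    (isIso_Q_map_iff_quasiIso _ _).2 inferInstance
  haveI : IsIso (Q.map (L.πTruncGE a)) := (isIso_Q_map_iff_quasiIso _ _).2 inferInstance
  exact ⟨(asIso (Q.map (CochainComplex.truncGEMap s a))).symm ≪≫
    asIso (Q.map (CochainComplex.truncGEMap g a)) ≪≫ (asIso (Q.map (L.πTruncGE a))).symm⟩

end TR

section Local

variable {Y : Scheme.{u}}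

/-- stalkwise tor amplitude is invariant under isomorphisms in the derived category -/
lemma stalk_amp_of_iso {K G : CochainComplex Y.Modules ℤ} (e : Q.obj K ≅ Q.obj G) (y : Y)
    (a b : ℤ)
    (h : DRing.HasTorAmplitudeIn (Y.presheaf.stalk y) a b (DRing.toD ((ΦC y).obj G))) :
    DRing.HasTorAmplitudeIn (Y.presheaf.stalk y) a b (DRing.toD ((ΦC y).obj K)) :=
  hasTorAmplitudeIn_of_iso (((Φ y).mapDerivedCategoryFactors.app G).symm ≪≫
    (Φ y).mapDerivedCategory.mapIso e.symm ≪≫ (Φ y).mapDerivedCategoryFactors.app K) h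

/-- **spreading out**: if a strictly perfect complex approximates `G ∈ D^{≥ a}` in degrees
`≥ a` and the stalk of `G` at `y` has tor amplitude in `[a, b]`, then `G` is perfect near `y` -/
theorem exists_perfect_nhd (G P : CochainComplex Y.Modules ℤ) (a b : ℤ) [G.IsGE a]
    (hP : DCoh.IsStrictlyPerfect P) (α : Q.obj P ⟶ Q.obj G)
    (hα : ∀ i : ℤ, a ≤ i → IsIso ((DerivedCategory.homologyFunctor Y.Modules i).map α))
    (y : Y)
    (hy : DRing.HasTorAmplitudeIn (Y.presheaf.stalk y) a b (DRing.toD ((ΦC y).obj G))) :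
    ∃ W : Y.Opens, y ∈ W ∧ DCoh.IsPerfect ((DCoh.restrictD W.ι).obj (Q.obj G)) := by
  obtain ⟨⟨p, q, hpq⟩, hfl⟩ := hP
  obtain ⟨e⟩ := nonempty_iso_truncGE P G a α hα
  have hKy := stalk_amp_of_iso e y a b hy
  obtain ⟨qc, fp⟩ := isFinitePresentation_cokernel (P.d (a - 1) a) (hfl (a - 1)) (hfl a)
  have c1 := cokernelIsCokernel (P.d (a - 1) a)
  have c2 := P.opcyclesIsCokernel (a - 1) a (by simp)
  let i1 : cokernel (P.d (a - 1) a) ≅ (P.truncGE a).X a :=
    c1.coconePointUniqueUpToIso c2 ≪≫ (P.truncGEXIsoOpcycles a).symm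
  haveI qcK : ((P.truncGE a).X a).IsQuasicoherent :=
    (SheafOfModules.isQuasicoherent Y.ringCatSheaf).prop_of_iso i1 qc
  haveI fpK : SheafOfModules.IsFinitePresentation (R := Y.ringCatSheaf) ((P.truncGE a).X a) :=
    (SheafOfModules.isFinitePresentation Y.ringCatSheaf).prop_of_iso i1 fp
  have hKv : ∀ i : ℤ, max q a < i → IsZero ((P.truncGE a).X i) := fun i hi => by
    have h1 : q < i := lt_of_le_of_lt (le_max_left q a) hi
    have h2 : a < i := lt_of_le_of_lt (le_max_right q a) hi
    exact IsZero.of_iso (hpq i (Or.inr h1)) (P.truncGEXIso a i h2)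
  have hKb : DRing.VanishesAbove ((ΦC y).obj (P.truncGE a)) (max q a) := fun i hi =>
    (Φ y).map_isZero (hKv i hi)
  have hKflat : ∀ i, a < i → FlatMod.IsFinLocFree ((P.truncGE a).X i) := fun i hi =>
    LocFreeCrit.isFinLocFree_of_iso (P.truncGEXIso a i hi).symm (hfl i)
  have hKfl : ∀ i, a < i →
      Module.Flat (Y.presheaf.stalk y) (((ΦC y).obj (P.truncGE a)).X i) := fun i hi =>
    (PerfTor.isFlat_of_isFinLocFree' (hKflat i hi)) y
  have hq := flat_cok_of_flat_above ((ΦC y).obj (P.truncGE a)) (max q a) hKb a b hKfl hKy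
  haveI : Subsingleton (((ΦC y).obj (P.truncGE a)).X (a - 1)) :=
    ModuleCat.subsingleton_of_isZero ((Φ y).map_isZero
      ((P.truncGE a).isZero_of_isStrictlyGE a (a - 1) (by omega)))
  have hbot : LinearMap.range (((ΦC y).obj (P.truncGE a)).d (a - 1) a).hom = ⊥ := by
    rw [LinearMap.range_eq_bot]
    apply LinearMap.ext
    intro x
    rw [Subsingleton.elim x 0, map_zero]
    rfl
  haveI hflat : Module.Flat (Y.presheaf.stalk y) (((P.truncGE a).X a).presheaf.stalk y) :=
    @Module.Flat.of_linearEquiv _ _ _ _ _ _ _ _ hq (Submodule.quotEquivOfEqBot _ hbot).symm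
  obtain ⟨_, ⟨U, hU, rfl⟩, hyU, -⟩ :=
    Y.isBasis_affineOpens.exists_subset_of_mem_open (Set.mem_univ y) isOpen_univ
  haveI := QCProps.finitePresentation_sections ((P.truncGE a).X a) hU
  obtain ⟨i1', i2', i3', i4', g, h1, h2, h3⟩ :=
    QS.exists_isLocalizedModule hU ((P.truncGE a).X a) y hyU
  haveI : Module.Finite (Y.presheaf.stalk y) (((P.truncGE a).X a).presheaf.stalk y) :=
    Module.Finite.of_isLocalizedModule (hU.primeIdealOf ⟨y, hyU⟩).asIdeal.primeCompl g
  have hfree : Module.Free (Y.presheaf.stalk y) (((P.truncGE a).X a).presheaf.stalk y) :=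
    Module.free_of_flat_of_isLocalRing
  obtain ⟨W, hyW, hWU, n, eb, heb⟩ :=
    FreeLocus.exists_freeOn_of_free_stalk ((P.truncGE a).X a) y hU hyU hfree
  refine ⟨W, hyW, ?_⟩
  have hKW : DCoh.IsStrictlyPerfect ((resCx W.ι).obj (P.truncGE a)) := by
    refine ⟨⟨a, max q a, ?_⟩, ?_⟩
    · intro i hi
      rcases hi with hi | hi
      · exact (restrictFunctor W.ι).map_isZero ((P.truncGE a).isZero_of_isStrictlyGE a i hi)
      · exact (restrictFunctor W.ι).map_isZero (hKv i hi)
    · intro i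
      rcases lt_trichotomy i a with h | h | h
      · exact PerfLocal.isFinLocFree_of_isZero ((restrictFunctor W.ι).map_isZero
          ((P.truncGE a).isZero_of_isStrictlyGE a i h))
      · subst h
        exact (LocFreeCrit.isFinLocFree_restrict_iff ((P.truncGE i).X i) W).2
          (fun x hx => ⟨W, n, eb, hx, le_rfl, heb⟩)
      · exact LocNull.isFinLocFree_restrict W.ι _ (hKflat i h)
  exact isPerfect_of_iso
    (((restrictFunctor W.ι).mapDerivedCategoryFactors.app (P.truncGE a)).symm ≪≫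
      (DCoh.restrictD W.ι).mapIso e)
    (PerfTor.isPerfect_of_isStrictlyPerfect _ hKW)

end Local

section Main

variable {X Y : Scheme.{u}}

/-- pullback along a flat morphism preserves stalkwise tor amplitude -/
theorem stalk_amp_pull (f : X ⟶ Y) [Flat f] (P : CochainComplex Y.Modules ℤ) (a b : ℤ) (x : X)
    (h : DRing.HasTorAmplitudeIn (Y.presheaf.stalk (f.base x)) a b
      (DRing.toD ((ΦC (f.base x)).obj P))) :
    DRing.HasTorAmplitudeIn (X.presheaf.stalk x) a b
      (DRing.toD ((ΦC x).obj ((pullC f).obj P))) := by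
  letI : Algebra (Y.presheaf.stalk (f.base x)) (X.presheaf.stalk x) := (φst f x).toAlgebra
  haveI : Module.Flat (Y.presheaf.stalk (f.base x)) (X.presheaf.stalk x) := Flat.stalkMap f x
  obtain ⟨E, hv, hfl, ⟨e⟩⟩ := h
  let G := extM (A := Y.presheaf.stalk (f.base x)) (B := X.presheaf.stalk x)
  refine hasTorAmplitudeIn_of_iso (Q.mapIso (pullStalkCxIso f P x)).symm ?_
  refine ⟨(G.mapHomologicalComplex cc).obj E, fun i hi => G.map_isZero (hv i hi), fun i => ?_,
    ⟨(mapDToDIso G E).symm ≪≫ G.mapDerivedCategory.mapIso e ≪≫ mapDToDIso G _⟩⟩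
  haveI := hfl i
  exact flat_extM (B := X.presheaf.stalk x) (E.X i)

/-- stalks of a restriction to an open -/
theorem stalk_amp_restrict (V : X.Opens) (F : CochainComplex X.Modules ℤ) (a b : ℤ) (x : X)
    (hx : x ∈ V)
    (h : DRing.HasTorAmplitudeIn (X.presheaf.stalk x) a b (DRing.toD ((ΦC x).obj F))) :
    DRing.HasTorAmplitudeIn ((V : Scheme.{u}).presheaf.stalk ⟨x, hx⟩) a b
      (DRing.toD ((ΦC (X := (V : Scheme.{u})) ⟨x, hx⟩).obj ((DCoh.restrictCx V).obj F))) := by
  have h' := stalk_amp_pull V.ι F a b ⟨x, hx⟩ h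
  exact hasTorAmplitudeIn_of_iso (Q.mapIso ((ΦC (X := (V : Scheme.{u})) ⟨x, hx⟩).mapIso
      ((NatIso.mapHomologicalComplex (Scheme.Modules.restrictFunctorIsoPullback V.ι) cc).app
        F))).symm h'

theorem isPerfect_iff_pseudoCoherent
    (hX : ∀ (x : X) (M : Type u) [AddCommGroup M] [Module (X.presheaf.stalk x) M],
      DRing.HasFiniteTorDim (X.presheaf.stalk x) M)
    (F : CochainComplex X.Modules ℤ) (c d : ℤ) [(DCoh.toD X F).IsGE c] [(DCoh.toD X F).IsLE d] :
    (∀ m : ℤ, DCoh.IsPseudoCoherentD m (DCoh.toD X F)) ↔ DCoh.IsPerfect (DCoh.toD X F) := by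
  constructor
  · intro hpc
    haveI hFge : F.IsGE c := (DerivedCategory.isGE_Q_obj_iff F c).1 inferInstance
    haveI hFle : F.IsLE d := (DerivedCategory.isLE_Q_obj_iff F d).1 inferInstance
    apply PerfTor.isPerfect_of_locally
    intro x
    have hbdd : ∃ a b : ℤ, ∀ i : ℤ, i < a ∨ b < i →
        Subsingleton (Dual.HD (X.presheaf.stalk x) (DRing.toD ((ΦC x).obj F)) i) := by
      refine ⟨c, d, fun i hi => ?_⟩
      have h1 : F.ExactAt i := by
        rcases hi with hi | hi
        · exact F.exactAt_of_isGE c i hi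
        · exact F.exactAt_of_isLE d i hi
      have h2 : ((ΦC x).obj F).ExactAt i := h1.map (Φ x)
      exact ModuleCat.subsingleton_of_isZero ((isZero_H_toD_iff_exactAt _ i).2 h2)
    obtain ⟨a', b', hamp⟩ :=
      ((finiteTorDim_iff_bounded_of_forall_module_finiteTorDim (hX x) _).1).2 hbdd
    have hamp' : DRing.HasTorAmplitudeIn (X.presheaf.stalk x) (min a' c) b'
        (DRing.toD ((ΦC x).obj F)) := hasTorAmplitudeIn_mono hamp (min_le_left _ _) le_rfl
    obtain ⟨V, hxV, hV⟩ := hpc (min a' c - 1) x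
    obtain ⟨P, α, hP, hiso, -⟩ := hV F ⟨Iso.refl _⟩
    haveI : ((DCoh.restrictCx V).obj F).IsGE (min a' c) := by
      rw [CochainComplex.isGE_iff]
      intro i hi
      have h1 : F.ExactAt i := F.exactAt_of_isGE c i (lt_of_lt_of_le hi (min_le_right _ _))
      exact h1.map (Scheme.Modules.restrictFunctor V.ι)
    have hy := stalk_amp_restrict V F (min a' c) b' x hxV hamp'
    obtain ⟨W, hyW, hW⟩ := exists_perfect_nhd ((DCoh.restrictCx V).obj F) P (min a' c) b' hP α
      (fun i hi => hiso i (by omega)) ⟨x, hxV⟩ hy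
    obtain ⟨cc'⟩ := nonempty_resD_comp W.ι V.ι (W.ι ≫ V.ι) rfl (DCoh.toD X F)
    refine ⟨W, W.ι ≫ V.ι, inferInstance, ⟨⟨x, hxV⟩, hyW⟩, rfl, ?_⟩
    exact isPerfect_of_iso ((DCoh.restrictD W.ι).mapIso
      ((restrictFunctor V.ι).mapDerivedCategoryFactors.app F).symm ≪≫ cc') hW
  · intro h m
    exact PerfTor.isPC_of_isPerfect _ h m

end Main

end Groth.Agent.Lib.Helper2.FlatAmpDesc
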