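import Groth.Agent.Lib.Helper2.FlatAmpDesc.Clear
import Groth.Agent.Lib.Helper2.FlatAmpDesc.Spread
import Groth.Agent.Lib.Helper2.Mon.ProjClosed
import Groth.Agent.Lib.Helper2.Aff.FlatAmpAff

/-!
# A perfect complex over a local ring of a scheme spreads out (helper2)
-/

set_option autoImplicit false
set_option linter.style.haveILetI false
set_option backward.isDefEq.respectTransparency false
universe u
open CategoryTheory CategoryTheory.Limits AlgebraicGeometry TopologicalSpace Opposite
  HomologicalComplex TensorProduct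

attribute [local instance] HasDerivedCategory.standard

namespace Groth.Agent.Lib.Helper2.FlatAmpDesc.SpreadStalk

open AlgebraicGeometry.Scheme.Modules
open Groth.Agent.Lib.Helper2 Groth.Agent.Lib.Helper2.Stk
  Groth.Agent.Lib.Helper18 Groth.Agent.Lib.Helper18.DR DerivedCategory
open Groth.Agent.Lib.Helper13 Groth.Agent.Lib.Helper2.Mon Groth.Agent.Lib.Helper2.Aff

local notation "cc" => ComplexShape.up ℤ

section Alg

variable {R S S' : Type u} [CommRing R] [CommRing S] [CommRing S'] (ρ : R →+* S') (φ : S ≃+* S')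

/-- extension of scalars followed by restriction along a ring isomorphism is extension of
scalars -/
noncomputable def extRestrictIso :
    ModuleCat.extendScalars.{u, u, u} ρ ⋙ ModuleCat.restrictScalars.{u} φ.toRingHom ≅
      ModuleCat.extendScalars.{u, u, u} (φ.symm.toRingHom.comp ρ) :=
  (((ModuleCat.extendRestrictScalarsAdj ρ).comp
    (ModuleCat.restrictScalarsEquivalenceOfRingEquiv φ).toAdjunction).ofNatIsoRight
      (ModuleCat.restrictScalarsComp'.{u} ρ φ.symm.toRingHom _ rfl).symm).leftAdjointUniq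
    (ModuleCat.extendRestrictScalarsAdj (φ.symm.toRingHom.comp ρ))

end Alg

section Geo

variable {X : Scheme.{u}} {W : X.Opens} (hW : IsAffineOpen W) (y : (Spec Γ(X, W) : Scheme.{u}))

/-- the functor `M ↦ (fromSpec)_* M~` -/
noncomputable abbrev G : ModuleCat.{u} Γ(X, W) ⥤ X.Modules :=
  tilde.functor Γ(X, W) ⋙ pushforward hW.fromSpec

/-- the ring isomorphism on stalks -/
noncomputable def φe :
    X.presheaf.stalk (hW.fromSpec.base y) ≃+* (Spec Γ(X, W)).presheaf.stalk y :=
  (asIso (hW.fromSpec.stalkMap y)).commRingCatIsoToRingEquiv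

/-- the ring map `Γ(X, W) → O_{X, x}` -/
noncomputable def ρX : Γ(X, W) →+* X.presheaf.stalk (hW.fromSpec.base y) :=
  (φe hW y).symm.toRingHom.comp (ρst Γ(X, W) y)

/-- the stalk of `(fromSpec)_* M~` is the base change of `M` -/
noncomputable def stalkGIso :
    G hW ⋙ Φ (hW.fromSpec.base y) ≅ ModuleCat.extendScalars.{u, u, u} (ρX hW y) :=
  Functor.associator _ _ _ ≪≫
    Functor.isoWhiskerLeft (tilde.functor Γ(X, W))
      (pushStalkIso hW.fromSpec y hW.fromSpec.isOpenEmbedding.isInducing) ≪≫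
    (Functor.associator _ _ _).symm ≪≫
    Functor.isoWhiskerRight (tildeStalkIso Γ(X, W) y) _ ≪≫
    extRestrictIso (ρst Γ(X, W) y) (φe hW y)

lemma isLocalization_ρX :
    letI := (ρX hW y).toAlgebra
    IsLocalization.AtPrime (X.presheaf.stalk (hW.fromSpec.base y)) y.asIdeal := by
  letI := (ρX hW y).toAlgebra
  letI k : Algebra Γ(X, W) ((Spec Γ(X, W)).presheaf.stalk y) := (ρst Γ(X, W) y).toAlgebra
  haveI : IsLocalization.AtPrime ((Spec Γ(X, W)).presheaf.stalk y) y.asIdeal :=
    StructureSheaf.IsLocalization.to_stalk (R := Γ(X, W)) y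
  let e : (Spec Γ(X, W)).presheaf.stalk y ≃ₐ[Γ(X, W)] X.presheaf.stalk (hW.fromSpec.base y) :=
    { (φe hW y).symm with commutes' := fun a => rfl }
  exact IsLocalization.isLocalization_of_algEquiv y.asIdeal.primeCompl e

end Geo

section Perf

variable {X : Scheme.{u}} {W : X.Opens} (hW : IsAffineOpen W)

/-- restricting `(fromSpec)_* M~` back to `Spec Γ(X, W)` gives `M~` -/
noncomputable def restrictGIso :
    (G hW ⋙ restrictFunctor W.ι) ⋙ restrictFunctor hW.isoSpec.inv ≅ tilde.functor Γ(X, W) :=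
  Functor.associator _ _ _ ≪≫ Functor.associator _ _ _ ≪≫
    Functor.isoWhiskerLeft (tilde.functor Γ(X, W))
      (Functor.isoWhiskerLeft (pushforward hW.fromSpec)
          ((restrictFunctorComp hW.isoSpec.inv W.ι).symm ≪≫
            restrictFunctorCongr (show hW.isoSpec.inv ≫ W.ι = hW.fromSpec from rfl)) ≪≫
        restrictFunctorAdjCounitIso hW.fromSpec) ≪≫
    Functor.rightUnitor _

theorem isPerfect_restrict_G (E : DRing.Cx Γ(X, W)) (a b : ℤ) (hv : DRing.VanishesOutside E a b)
    (hE : DRing.TermwiseFiniteFree E) :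
    DCoh.IsPerfect (DerivedCategory.Q.obj
      ((DCoh.restrictCx W).obj (((G hW).mapHomologicalComplex cc).obj E))) := by
  haveI : (tilde.functor Γ(X, W)).Additive := PerfAff.additive_tilde _
  haveI : (tilde.functor Γ(X, W)).PreservesZeroMorphisms := inferInstance
  apply PerfTor.isPerfect_of_locally
  intro w
  refine ⟨Spec Γ(X, W), hW.isoSpec.inv, inferInstance, hW.isoSpec.hom.base w, ?_, ?_⟩
  · have h1 : (hW.isoSpec.hom ≫ hW.isoSpec.inv).base w = w := by
      rw [Iso.hom_inv_id]; rfl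
    exact h1
  · let F := ((tilde.functor Γ(X, W)).mapHomologicalComplex cc).obj E
    have hF : DCoh.IsStrictlyPerfect F := by
      refine ⟨⟨a, b, fun i hi => (tilde.functor Γ(X, W)).map_isZero (hv i hi)⟩, fun i => ?_⟩
      obtain ⟨h1, h2⟩ := hE i
      haveI : Module.Projective Γ(X, W) (E.X i) := Module.Projective.of_free
      exact PerfAff.isFinLocFree_tilde Γ(X, W) (E.X i)
    let K := (DCoh.restrictCx W).obj (((G hW).mapHomologicalComplex cc).obj E)
    let e1 : (DCoh.restrictD hW.isoSpec.inv).obj (DerivedCategory.Q.obj K) ≅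
        DerivedCategory.Q.obj ((PerfTri.resCx hW.isoSpec.inv).obj K) :=
      (restrictFunctor hW.isoSpec.inv).mapDerivedCategoryFactors.app K
    let e2 : (PerfTri.resCx hW.isoSpec.inv).obj K ≅ F :=
      (NatIso.mapHomologicalComplex (restrictGIso hW) cc).app E
    exact PerfTri.isPerfect_of_iso (e1 ≪≫ DerivedCategory.Q.mapIso e2).symm
      (PerfTor.isPerfect_of_isStrictlyPerfect F hF)

end Perf

section Main

theorem main {X : Scheme.{u}} (x : X) (P : Dual.D ((X.presheaf.stalk x) : Type u))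
    (hP : DRing.IsPerfect ((X.presheaf.stalk x) : Type u) P) :
    ∃ (U : X.Opens) (F' : CochainComplex X.Modules ℤ), x ∈ U ∧
      DCoh.IsPerfect (DerivedCategory.Q.obj ((DCoh.restrictCx U).obj F')) ∧
      Nonempty (DRing.toD (((DerSch.stalkFunctor X x).mapHomologicalComplex
        (ComplexShape.up ℤ)).obj F') ≅ P) := by
  obtain ⟨W, hW, hxW⟩ : ∃ W : X.Opens, IsAffineOpen W ∧ x ∈ W := by
    obtain ⟨_, ⟨U, hU, rfl⟩, hxU, -⟩ :=
      X.isBasis_affineOpens.exists_subset_of_mem_open (Set.mem_univ x) isOpen_univ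
    exact ⟨U, hU, hxU⟩
  obtain ⟨y, rfl⟩ : ∃ y, hW.fromSpec.base y = x :=
    ⟨hW.primeIdealOf ⟨x, hxW⟩, hW.fromSpec_primeIdealOf ⟨x, hxW⟩⟩
  obtain ⟨E, a, b, hv, hfp, ⟨e⟩⟩ := hP
  letI alg : Algebra Γ(X, W) (X.presheaf.stalk (hW.fromSpec.base y)) := (ρX hW y).toAlgebra
  haveI := isLocalization_ρX hW y
  obtain ⟨E'', hv'', hff'', ⟨ε⟩⟩ := Clear.exists_descent y.asIdeal E a b hv hfp
  refine ⟨W, ((G hW).mapHomologicalComplex cc).obj E'', hxW,
    isPerfect_restrict_G hW E'' a b hv'' hff'', ⟨?_⟩⟩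
  let ε1 : ((Φ (hW.fromSpec.base y)).mapHomologicalComplex cc).obj
      (((G hW).mapHomologicalComplex cc).obj E'') ≅
      ((extM (A := Γ(X, W)) (B := X.presheaf.stalk (hW.fromSpec.base y))).mapHomologicalComplex
        cc).obj E'' :=
    (NatIso.mapHomologicalComplex (stalkGIso hW y) cc).app E''
  exact DerivedCategory.Q.mapIso (ε1 ≪≫ ε) ≪≫ e

end Main

end Groth.Agent.Lib.Helper2.FlatAmpDesc.SpreadStalk
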