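import Groth.Agent.Lib.Helper2.FlatAmpDesc.LocIso
import Groth.Agent.Lib.Helper2.FlatAmpDesc.SpreadZero
import Groth.Agent.Lib.Helper2.FlatAmpDesc.SpreadStalk
import Groth.Agent.Lib.Helper18.DRRes
import Groth.Agent.Lib.Helper2.Aff.AcycPush

/-!
# An isomorphism of stalk complexes of pseudo-coherent complexes spreads out (helper2)
-/

set_option autoImplicit false
set_option linter.style.haveILetI false
set_option backward.isDefEq.respectTransparency false
universe u
open CategoryTheory CategoryTheory.Limits CategoryTheory.Pretriangulated DerivedCategory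
  AlgebraicGeometry

attribute [local instance] HasDerivedCategory.standard

namespace Groth.Agent.Lib.Helper2.FlatAmpDesc.SpreadIso

open AlgebraicGeometry.Scheme.Modules Groth.Agent.Lib.Helper13 Groth.Agent.Lib.Helper2.Aff
  Groth.Agent.Lib.Helper2.Stk Groth.Agent.Lib.Helper18.DR Groth.Agent.Lib.Helper2
  Groth.Agent.Lib.Helper2.Aff.PerfAff Groth.Agent.Lib.Helper2.Aff.FlatAmp

local notation "cc" => ComplexShape.up ℤ

section Stalk

variable {A : Type u} [CommRing A] (y : (Spec (CommRingCat.of A) : Scheme.{u}))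
  [PreservesFiniteLimits (tilde.functor (CommRingCat.of A))]

/-- the stalk at `y` of `K~` in the derived category is the termwise base change -/
noncomputable def stalkTildeDIso :
    (DerivedCategory.Q ⋙ DCoh.tildeD (CommRingCat.of A)) ⋙ (Φ y).mapDerivedCategory ≅
      DTen.extCx (algebraMap A (Ox A y)) ⋙ DerivedCategory.Q :=
  Functor.isoWhiskerRight (tilde.functor (CommRingCat.of A)).mapDerivedCategoryFactors _ ≪≫
    Functor.associator _ _ _ ≪≫
    Functor.isoWhiskerLeft _ (Φ y).mapDerivedCategoryFactors ≪≫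
    (Functor.associator _ _ _).symm ≪≫
    Functor.isoWhiskerRight
      (show (tilde.functor (CommRingCat.of A)).mapHomologicalComplex cc ⋙
          (Φ y).mapHomologicalComplex cc ≅ DTen.extCx (algebraMap A (Ox A y)) from
        NatIso.mapHomologicalComplex (tildeStalkIso (CommRingCat.of A) y) cc) _

end Stalk

section Model

variable {X : Scheme.{u}} {A : Type u} [CommRing A] (j : Spec (CommRingCat.of A) ⟶ X)
  [IsOpenImmersion j] (y : (Spec (CommRingCat.of A) : Scheme.{u}))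
  [PreservesFiniteLimits (tilde.functor (CommRingCat.of A))]

/-- stalk complex of a restriction along an open immersion -/
noncomputable def stalkRestrictCxIso (E : CochainComplex X.Modules ℤ) :
    (ΦC y).obj ((PerfTri.resCx j).obj E) ≅
      (DTen.extCx (φst j y)).obj ((ΦC (j.base y)).obj E) :=
  (ΦC y).mapIso ((NatIso.mapHomologicalComplex (restrictFunctorIsoPullback j) cc).app E) ≪≫
    pullStalkCxIso j E y

/-- the stalk of a tilde-model of `E` restricted to `Spec A` -/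
noncomputable def stalkModelIso (E : CochainComplex X.Modules ℤ) (P : DRing.Cx A)
    (ε : (DCoh.tildeD (CommRingCat.of A)).obj (DRing.toD P) ≅
      (DCoh.restrictD j).obj (DerivedCategory.Q.obj E)) :
    DerivedCategory.Q.obj ((DTen.extCx (algebraMap A (Ox A y))).obj P) ≅
      DerivedCategory.Q.obj ((DTen.extCx (φst j y)).obj ((ΦC (j.base y)).obj E)) :=
  ((stalkTildeDIso y).app P).symm ≪≫ (Φ y).mapDerivedCategory.mapIso ε ≪≫
    (Φ y).mapDerivedCategory.mapIso ((restrictFunctor j).mapDerivedCategoryFactors.app E) ≪≫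
    (Φ y).mapDerivedCategoryFactors.app _ ≪≫
    DerivedCategory.Q.mapIso (stalkRestrictCxIso j y E)

/-- base change along the stalk map of an open immersion preserves isomorphisms in `D` -/
theorem nonempty_ext_iso {K L : DRing.Cx (X.presheaf.stalk (j.base y))}
    (e : DRing.toD K ≅ DRing.toD L) :
    Nonempty (DerivedCategory.Q.obj ((DTen.extCx (φst j y)).obj K) ≅
      DerivedCategory.Q.obj ((DTen.extCx (φst j y)).obj L)) := by
  letI : Algebra (X.presheaf.stalk (j.base y)) ((Spec (CommRingCat.of A)).presheaf.stalk y) :=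
    (φst j y).toAlgebra
  haveI : Module.Flat (X.presheaf.stalk (j.base y))
      ((Spec (CommRingCat.of A)).presheaf.stalk y) := Flat.stalkMap j y
  let G := extM (A := X.presheaf.stalk (j.base y))
    (B := (Spec (CommRingCat.of A)).presheaf.stalk y)
  exact ⟨(mapDToDIso G K).symm ≪≫ G.mapDerivedCategory.mapIso e ≪≫ mapDToDIso G L⟩

end Model

section Main

variable {X : Scheme.{u}} {A : Type u} [CommRing A] (j : Spec (CommRingCat.of A) ⟶ X)
  [IsOpenImmersion j] (y : (Spec (CommRingCat.of A) : Scheme.{u}))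
  [PreservesFiniteLimits (tilde.functor (CommRingCat.of A))]

/-- a pseudo-coherent complex restricted to an affine chart has a bounded above finite free
tilde model -/
theorem exists_model (E : CochainComplex X.Modules ℤ)
    (hE : ∀ m : ℤ, DCoh.IsPseudoCoherentD m (DCoh.toD X E)) :
    ∃ (P : DRing.Cx A) (b : ℤ), DRing.VanishesAbove P b ∧ DRing.TermwiseFiniteFree P ∧
      Nonempty ((DCoh.tildeD (CommRingCat.of A)).obj (DRing.toD P) ≅
        (DCoh.restrictD j).obj (DerivedCategory.Q.obj E)) := by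
  have hpc : ∀ m : ℤ, DCoh.IsPseudoCoherentD m
      ((DCoh.restrictD j).obj (DerivedCategory.Q.obj E)) := fun m =>
    ClImmPC.isPC_restrict j (hE m)
  have hq := PCB.isQCohD_of_allPC _ hpc
  obtain ⟨-, -, hess⟩ := tildeD_fullyFaithful_essImage (CommRingCat.of A)
  obtain ⟨M, ⟨εM⟩⟩ := (hess _).1 hq
  have hM : ∀ m : ℤ, DRing.IsPseudoCoherent A m M := fun m =>
    (isPC_tildeD_iff A M m).1 (PCohSum.isPC_of_iso εM.symm (hpc m))
  obtain ⟨P, b, hb, hfree, ⟨eP⟩⟩ := isPseudoCoherent'_of_forall M hM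
  exact ⟨P, b, hb, hfree, ⟨(DCoh.tildeD (CommRingCat.of A)).mapIso eP ≪≫ εM⟩⟩

/-- `tildeD` reflects the property of being in `D^{≥ c}` -/
theorem isGE_of_tildeD (M : Dual.D A) (c : ℤ)
    [((DCoh.tildeD (CommRingCat.of A)).obj M).IsGE c] : M.IsGE c := by
  rw [DerivedCategory.isGE_iff]
  intro i hi
  haveI : (tilde.functor (CommRingCat.of A)).Faithful :=
    (tilde.fullyFaithfulFunctor (R := CommRingCat.of A)).faithful
  apply AffPush.isZero_of_faithful (tilde.functor (CommRingCat.of A))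
  exact IsZero.of_iso (DerivedCategory.isZero_of_isGE
    ((DCoh.tildeD (CommRingCat.of A)).obj M) c i hi)
    ((GoodMap.homologyDIso (tilde.functor (CommRingCat.of A)) i).app M).symm

/-- the affine-chart form of the spreading theorem -/
theorem spread_iso_chart (E F : CochainComplex X.Modules ℤ) (c d : ℤ)
    [(DCoh.toD X E).IsGE c] [(DCoh.toD X E).IsLE d] [(DCoh.toD X F).IsGE c]
    [(DCoh.toD X F).IsLE d]
    (hE : ∀ m : ℤ, DCoh.IsPseudoCoherentD m (DCoh.toD X E))
    (hF : ∀ m : ℤ, DCoh.IsPseudoCoherentD m (DCoh.toD X F))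
    (hx : Nonempty (DRing.toD ((ΦC (j.base y)).obj E) ≅ DRing.toD ((ΦC (j.base y)).obj F))) :
    ∃ U₁ : (Spec (CommRingCat.of A)).Opens, y ∈ U₁ ∧
      Nonempty ((DCoh.restrictD U₁.ι).obj ((DCoh.restrictD j).obj (DerivedCategory.Q.obj E)) ≅
        (DCoh.restrictD U₁.ι).obj ((DCoh.restrictD j).obj (DerivedCategory.Q.obj F))) := by
  obtain ⟨P, b, hPb, hPfree, ⟨εE⟩⟩ := exists_model j E hE
  obtain ⟨K, b', hKb, hKfree, ⟨εF⟩⟩ := exists_model j F hF
  haveI : P.IsKProjective := isKProjective_of_vanishesAbove P b hPb (fun i => by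
    haveI := (hPfree i).2; exact Module.Projective.of_free)
  have hPpc : DRing.IsPseudoCoherent' A (DRing.toD P) := ⟨P, b, hPb, hPfree, ⟨Iso.refl _⟩⟩
  let KE := (DCoh.restrictD j).obj (DerivedCategory.Q.obj E)
  let KF := (DCoh.restrictD j).obj (DerivedCategory.Q.obj F)
  haveI : KE.IsGE c := SpreadZero.isGE_restrictD j (DCoh.toD X E) c
  haveI : KE.IsLE d := SpreadZero.isLE_restrictD j (DCoh.toD X E) d
  haveI : KF.IsGE c := SpreadZero.isGE_restrictD j (DCoh.toD X F) c
  haveI : KF.IsLE d := SpreadZero.isLE_restrictD j (DCoh.toD X F) d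
  let T₁ := (DCoh.tildeD (CommRingCat.of A)).obj (DRing.toD P)
  let T₂ := (DCoh.tildeD (CommRingCat.of A)).obj (DRing.toD K)
  haveI : T₁.IsGE c := TStructure.t.isGE_of_iso εE.symm c
  haveI : T₁.IsLE d := TStructure.t.isLE_of_iso εE.symm d
  haveI : T₂.IsGE c := TStructure.t.isGE_of_iso εF.symm c
  haveI : T₂.IsLE d := TStructure.t.isLE_of_iso εF.symm d
  haveI : (DRing.toD K).IsGE c := isGE_of_tildeD (DRing.toD K) c
  obtain ⟨e1⟩ := hx
  obtain ⟨e2⟩ := nonempty_ext_iso j y e1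
  let θ := stalkModelIso j y E P εE ≪≫ e2 ≪≫ (stalkModelIso j y F K εF).symm
  obtain ⟨f, hf⟩ := LocIso.exists_map_isIso_ext y.asIdeal.primeCompl P K hPpc c θ
  let μ : T₁ ⟶ T₂ := (DCoh.tildeD (CommRingCat.of A)).map (DerivedCategory.Q.map f)
  obtain ⟨C, g, h, hT⟩ := distinguished_cocone_triangle μ
  have hpc₁ : ∀ m : ℤ, DCoh.IsPseudoCoherentD m T₁ := fun m =>
    PCohSum.isPC_of_iso εE.symm (ClImmPC.isPC_restrict j (hE m))
  have hpc₂ : ∀ m : ℤ, DCoh.IsPseudoCoherentD m T₂ := fun m =>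
    PCohSum.isPC_of_iso εF.symm (ClImmPC.isPC_restrict j (hF m))
  have hpcC : ∀ m : ℤ, DCoh.IsPseudoCoherentD m C := fun m =>
    (PCohTri.isPC_two_of_three m (Triangle.mk μ g h) hT).1 (hpc₁ (m + 1)) (hpc₂ m)
  have hqC : DCoh.IsQCohD C :=
    AffPush.isQCohD_of_distTriang (Triangle.mk μ g h) hT
      (isQCohD_tildeD (CommRingCat.of A) _) (isQCohD_tildeD (CommRingCat.of A) _)
  have hvan : ∀ k : ℤ, k < c - 1 ∨ d < k → IsZero (DCoh.HD C k) := fun k hk => by
    refine AcycPush.isZero_homology_obj₃ (Triangle.mk μ g h) hT k (k + 1) rfl ?_ ?_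
    · have hz : IsZero ((DerivedCategory.homologyFunctor _ k).obj T₂) := by
        rcases hk with hk | hk
        · exact DerivedCategory.isZero_of_isGE T₂ c k (by omega)
        · exact DerivedCategory.isZero_of_isLE T₂ d k hk
      exact hz.epi _
    · have hz : IsZero ((DerivedCategory.homologyFunctor _ (k + 1)).obj T₁) := by
        rcases hk with hk | hk
        · exact DerivedCategory.isZero_of_isGE T₁ c (k + 1) (by omega)
        · exact DerivedCategory.isZero_of_isLE T₁ d (k + 1) (by omega)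
      exact hz.mono _
  haveI hCge : C.IsGE (c - 1) := by
    rw [DerivedCategory.isGE_iff]
    exact fun i hi => hvan i (Or.inl hi)
  haveI hCle : C.IsLE d := by
    rw [DerivedCategory.isLE_iff]
    exact fun i hi => hvan i (Or.inr hi)
  -- the stalk of `μ` at `y` is an isomorphism
  have hΦμ : IsIso ((Φ y).mapDerivedCategory.map μ) :=
    (NatIso.isIso_map_iff (stalkTildeDIso y) f).2 hf
  have hT' := (Φ y).mapDerivedCategory.map_distinguished _ hT
  have hΦC : IsZero ((Φ y).mapDerivedCategory.obj C) :=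
    (Triangle.isZero₃_iff_isIso₁ _ hT').2 hΦμ
  have hy : ∀ i : ℤ, y ∉ CohB1.support (DCoh.HD C i) := fun i => by
    have h1 : IsZero ((Φ y).obj (DCoh.HD C i)) :=
      IsZero.of_iso ((DerivedCategory.homologyFunctor _ i).map_isZero hΦC)
        ((GoodMap.homologyDIso (Φ y) i).app C).symm
    haveI : Subsingleton ((DCoh.HD C i).presheaf.stalk y) :=
      ModuleCat.subsingleton_of_isZero h1
    exact fun hn => hn inferInstance
  obtain ⟨U₁, hyU₁, hdisj⟩ := SpreadZero.exists_nhd_disjoint_support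
    ((d - (c - 1)).toNat + 1) C (c - 1) d (by omega) hqC hpcC hCge hCle y hy
  refine ⟨U₁, hyU₁, ?_⟩
  have hC₁ : IsZero ((DCoh.restrictD U₁.ι).obj C) := by
    apply AffPush.isZero_of_forall_isZero_homology
    intro i
    apply SpreadZero.isZero_of_support_eq_empty
    rw [AffModel.support_HD_restrictD U₁.ι C i]
    ext z
    simp only [Set.mem_preimage, Set.mem_empty_iff_false, iff_false]
    exact fun hz => (Set.disjoint_left.1 (hdisj i)) z.2 hz
  have hT₁ := (DCoh.restrictD U₁.ι).map_distinguished _ hT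
  haveI hμ₁ : IsIso ((DCoh.restrictD U₁.ι).map μ) :=
    (Triangle.isZero₃_iff_isIso₁ _ hT₁).1 hC₁
  exact ⟨(DCoh.restrictD U₁.ι).mapIso εE.symm ≪≫ asIso ((DCoh.restrictD U₁.ι).map μ) ≪≫
    (DCoh.restrictD U₁.ι).mapIso εF⟩

end Main

section Final

theorem main {X : Scheme.{u}} (x : X) (E F : CochainComplex X.Modules ℤ) (c d : ℤ)
    [(DCoh.toD X E).IsGE c] [(DCoh.toD X E).IsLE d] [(DCoh.toD X F).IsGE c]
    [(DCoh.toD X F).IsLE d]
    (hE : ∀ m : ℤ, DCoh.IsPseudoCoherentD m (DCoh.toD X E))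
    (hF : ∀ m : ℤ, DCoh.IsPseudoCoherentD m (DCoh.toD X F))
    (hx : Nonempty (DRing.toD (((DerSch.stalkFunctor X x).mapHomologicalComplex
        (ComplexShape.up ℤ)).obj E) ≅
      DRing.toD (((DerSch.stalkFunctor X x).mapHomologicalComplex (ComplexShape.up ℤ)).obj F))) :
    ∃ U : X.Opens, x ∈ U ∧
      Nonempty (DerivedCategory.Q.obj ((DCoh.restrictCx U).obj E) ≅
        DerivedCategory.Q.obj ((DCoh.restrictCx U).obj F)) := by
  obtain ⟨W, hW, hxW⟩ : ∃ W : X.Opens, IsAffineOpen W ∧ x ∈ W := by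
    obtain ⟨_, ⟨U, hU, rfl⟩, hxU, -⟩ :=
      X.isBasis_affineOpens.exists_subset_of_mem_open (Set.mem_univ x) isOpen_univ
    exact ⟨U, hU, hxU⟩
  obtain ⟨y, rfl⟩ : ∃ y, hW.fromSpec.base y = x :=
    ⟨hW.primeIdealOf ⟨x, hxW⟩, hW.fromSpec_primeIdealOf ⟨x, hxW⟩⟩
  let j : Spec (CommRingCat.of (Γ(X, W) : Type u)) ⟶ X := hW.fromSpec
  haveI : IsOpenImmersion j := inferInstanceAs (IsOpenImmersion hW.fromSpec)
  haveI := Groth.Agent.Lib.Helper14.preservesFiniteLimits_tilde
    (CommRingCat.of (Γ(X, W) : Type u))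
  obtain ⟨U₁, hy, ⟨e⟩⟩ := spread_iso_chart j y E F c d hE hF hx
  refine ⟨j ''ᵁ U₁, ⟨y, hy, rfl⟩, ?_⟩
  let e' := j.isoImage U₁
  have hcomm : U₁.ι ≫ j = e'.hom ≫ (j ''ᵁ U₁).ι := (Scheme.Hom.isoImage_hom_ι j U₁).symm
  obtain ⟨a1⟩ := PerfTri.nonempty_resD_comp U₁.ι j (U₁.ι ≫ j) rfl (DerivedCategory.Q.obj E)
  obtain ⟨a2⟩ := PerfTri.nonempty_resD_comp e'.hom (j ''ᵁ U₁).ι (U₁.ι ≫ j) hcomm
    (DerivedCategory.Q.obj E)
  obtain ⟨b1⟩ := PerfTri.nonempty_resD_comp U₁.ι j (U₁.ι ≫ j) rfl (DerivedCategory.Q.obj F)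
  obtain ⟨b2⟩ := PerfTri.nonempty_resD_comp e'.hom (j ''ᵁ U₁).ι (U₁.ι ≫ j) hcomm
    (DerivedCategory.Q.obj F)
  let iso := a2 ≪≫ a1.symm ≪≫ e ≪≫ b1 ≪≫ b2.symm
  exact ⟨((restrictFunctor (j ''ᵁ U₁).ι).mapDerivedCategoryFactors.app E).symm ≪≫
    (DCoh.restrictD e'.hom).preimageIso iso ≪≫
    (restrictFunctor (j ''ᵁ U₁).ι).mapDerivedCategoryFactors.app F⟩

end Final

end Groth.Agent.Lib.Helper2.FlatAmpDesc.SpreadIso
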